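import Cfsg.Agent.Aschbacher.Linear

/-!
The special linear group stabilises no decomposition, tensor decomposition or tensor power; the degree of a field
subalgebra divides the dimension.
-/

set_option autoImplicit false
set_option linter.unusedSectionVars false
set_option linter.style.haveILetI false
set_option linter.unusedSimpArgs false

namespace Cfsg.Agent.Aschbacher

open scoped MatrixGroups Matrix Kronecker
open Module

variable {ι : Type} [Fintype ι] [DecidableEq ι] {F : Type*} [Field F]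

theorem sl_not_le_decompositionStabilizer {t m : ℕ} {D : Fin t → Submodule F (ι → F)} (hD : Geo.IsMDecomposition m D) :
    ¬ Geo.specialLinear ι F ≤ Geo.decompositionStabilizer D := by
  intro h
  have ht := hD.two_le
  set i₀ : Fin t := ⟨0, by omega⟩
  set i₁ : Fin t := ⟨1, by omega⟩
  have h01 : i₀ ≠ i₁ := by simp [i₀, i₁]
  have hne : ∀ i, D i ≠ ⊥ := fun i hi => by
    have h1 := hD.finrank_eq i
    rw [hi, finrank_bot] at h1
    have := hD.pos
    omega
  obtain ⟨u, hu, hu0⟩ := (Submodule.ne_bot_iff _).mp (hne i₀)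
  obtain ⟨w, hw, hw0⟩ := (Submodule.ne_bot_iff _).mp (hne i₁)
  have hsep : ∀ {i j : Fin t} {x : ι → F}, i ≠ j → x ∈ D i → x ∈ D j → x = 0 := fun {i j x} hij hxi hxj =>
    Submodule.disjoint_def.mp (hD.indep.pairwiseDisjoint hij) x hxi hxj
  have huw : u ∉ Submodule.span F {w} := fun hmem =>
    hu0 (hsep h01 hu ((Submodule.span_singleton_le_iff_mem w (D i₁)).mpr hw hmem))
  obtain ⟨f, hfu, hfw⟩ := Submodule.exists_le_ker_of_notMem huw
  let φ : ι → F := fun k => (f u)⁻¹ * f (Pi.single k 1)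
  have hφ : ∀ x, φ ⬝ᵥ x = (f u)⁻¹ * f x := by
    intro x
    conv_rhs => rw [pi_eq_sum_univ' x, map_sum, Finset.mul_sum]
    exact Finset.sum_congr rfl fun k _ => by simp [φ]; ring
  have hφu : φ ⬝ᵥ u = 1 := by rw [hφ, inv_mul_cancel₀ hfu]
  have hφw : φ ⬝ᵥ w = 0 := by
    rw [hφ, show f w = 0 from hfw (Submodule.mem_span_singleton_self w), mul_zero]
  have hdet : (1 + Matrix.vecMulVec w φ).det = 1 := by
    rw [Matrix.vecMulVec_eq Unit, Matrix.det_one_add_replicateCol_mul_replicateRow, hφw, add_zero]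
  let g : GL ι F := Matrix.GeneralLinearGroup.mkOfDetNeZero (1 + Matrix.vecMulVec w φ) (by rw [hdet]; exact one_ne_zero)
  have hg : g ∈ Geo.specialLinear ι F := by
    show Matrix.GeneralLinearGroup.det g = 1
    exact Units.ext hdet
  obtain ⟨σ, hσ⟩ := h hg
  have hmem : u + w ∈ D (σ i₀) := by
    rw [← hσ i₀]
    refine ⟨u, hu, ?_⟩
    simp [g, Matrix.vecMulVec_mulVec, hφu, Matrix.add_mulVec]
  rcases eq_or_ne (σ i₀) i₀ with h0 | h0
  · rw [h0] at hmem
    exact hw0 (hsep h01 (by simpa using sub_mem hmem hu) hw)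
  rcases eq_or_ne (σ i₀) i₁ with h1 | h1
  · rw [h1] at hmem
    exact hu0 (hsep h01 hu (by simpa using sub_mem hmem hw))
  · have h2 : u + w = 0 := by
      refine Submodule.disjoint_def.mp (hD.indep (σ i₀)) _ hmem (add_mem ?_ ?_)
      · exact Submodule.mem_iSup_of_mem i₀ (Submodule.mem_iSup_of_mem h0.symm hu)
      · exact Submodule.mem_iSup_of_mem i₁ (Submodule.mem_iSup_of_mem h1.symm hw)
    have hmem' : u ∈ D i₁ := by rw [eq_neg_of_add_eq_zero_left h2]; exact neg_mem hw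
    exact hu0 (hsep h01 hu hmem')

theorem exists_mem_standard {κ : Type} [Fintype κ] [DecidableEq κ] (e : ι ≃ κ) (P : GL ι F) {S : Subgroup (GL κ F)}
    (h : Geo.specialLinear ι F ≤ (S.map (Geo.glReindex e.symm).toMonoidHom).map (MulAut.conj P).toMonoidHom)
    (x y : κ) (hxy : x ≠ y) : ∃ s ∈ S, (s : Matrix κ κ F) = Matrix.transvection x y 1 := by
  let t : GL κ F := Matrix.GeneralLinearGroup.mkOfDetNeZero (Matrix.transvection x y 1)
    (by rw [Matrix.det_transvection_of_ne x y hxy]; exact one_ne_zero)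
  have hmem : MulAut.conj P (Geo.glReindex e.symm t) ∈ Geo.specialLinear ι F := by
    show Matrix.GeneralLinearGroup.det _ = 1
    have h1 : Matrix.GeneralLinearGroup.det (Geo.glReindex e.symm t) = 1 := by
      refine Units.ext ?_
      simp [Geo.glReindex, t, Matrix.det_transvection_of_ne x y hxy]
    rw [MulAut.conj_apply, map_mul, map_mul, h1, mul_one, ← map_mul, mul_inv_cancel, map_one]
  obtain ⟨_, ⟨s, hs, rfl⟩, he⟩ := h hmem
  have h2 : s = t := (Geo.glReindex e.symm).injective ((MulAut.conj P).injective he)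
  exact ⟨s, hs, by rw [h2]; rfl⟩

theorem sl_not_le_tensorProductSubgroup {n₁ n₂ : ℕ} (h1 : 2 ≤ n₁) (h2 : 2 ≤ n₂) (e : ι ≃ Fin n₁ × Fin n₂)
    (P : GL ι F) : ¬ Geo.specialLinear ι F ≤ Geo.tensorProductSubgroup n₁ n₂ e P := by
  intro h
  set i : Fin n₁ := ⟨0, by omega⟩
  set j : Fin n₁ := ⟨1, by omega⟩
  set k : Fin n₂ := ⟨0, by omega⟩
  set l : Fin n₂ := ⟨1, by omega⟩
  have hij : i ≠ j := by simp [i, j]
  have hkl : k ≠ l := by simp [k, l]
  obtain ⟨s, ⟨a, b, hab⟩, hs⟩ := exists_mem_standard e P h (i, k) (j, l) (by simp [hij])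
  rw [hab] at hs
  have hE : ∀ p q, (a : Matrix (Fin n₁) (Fin n₁) F) p.1 q.1 * (b : Matrix (Fin n₂) (Fin n₂) F) p.2 q.2 =
      Matrix.transvection (i, k) (j, l) (1 : F) p q := fun p q => by rw [← hs]; rfl
  have e1 := hE (i, k) (j, l)
  have e2 := hE (i, k) (i, k)
  have e3 := hE (i, k) (j, k)
  simp [Matrix.transvection, hij, hkl, Matrix.one_apply, Matrix.single_apply, Ne.symm hij, Ne.symm hkl] at e1 e2 e3
  rcases e3 with e3 | e3
  · exact one_ne_zero (e1.symm.trans (by rw [e3, zero_mul]))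
  · exact one_ne_zero (e2.symm.trans (by rw [e3, mul_zero]))

/-- The matrices that are a pure tensor with permuted factors. -/
def MonoTensor (m t : ℕ) (A : Matrix (Fin t → Fin m) (Fin t → Fin m) F) : Prop :=
  ∃ (a : Fin t → Matrix (Fin m) (Fin m) F) (σ : Equiv.Perm (Fin t)), ∀ x y, A x y = ∏ i, a i (x i) (y (σ i))

theorem MonoTensor.mul {m t : ℕ} {A B : Matrix (Fin t → Fin m) (Fin t → Fin m) F} (hA : MonoTensor m t A)
    (hB : MonoTensor m t B) : MonoTensor m t (A * B) := by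
  obtain ⟨a, σ, ha⟩ := hA
  obtain ⟨b, τ, hb⟩ := hB
  refine ⟨fun i => a i * b (σ i), σ.trans τ, fun x z => ?_⟩
  rw [Matrix.mul_apply]
  simp only [ha, hb, Matrix.mul_apply, Equiv.trans_apply, Fintype.prod_sum]
  refine Fintype.sum_equiv (Equiv.arrowCongr σ.symm (Equiv.refl (Fin m))) _ _ fun y => ?_
  rw [← Fintype.prod_equiv σ (fun i => b (σ i) (y (σ i)) (z (τ (σ i)))) (fun j => b j (y j) (z (τ j))) (fun _ => rfl),
    ← Finset.prod_mul_distrib]
  simp [Equiv.arrowCongr]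

theorem monoTensor_of_mem [Finite F] {m t : ℕ} {g : GL (Fin t → Fin m) F} (hg : g ∈ Geo.tensorWreathStandard m t F) :
    MonoTensor m t (g : Matrix (Fin t → Fin m) (Fin t → Fin m) F) := by
  classical
  have h1 : g ∈ Submonoid.closure {g : GL (Fin t → Fin m) F | Geo.IsPureTensor m t g ∨ Geo.IsFactorPermutation m t g} := by
    rw [← Subgroup.closure_toSubmonoid_of_finite]
    exact hg
  clear hg
  induction h1 using Submonoid.closure_induction with
  | mem x hx =>
    rcases hx with ⟨gs, hgs⟩ | ⟨σ, hσ⟩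
    · exact ⟨fun i => (gs i : Matrix (Fin m) (Fin m) F), 1, hgs⟩
    · refine ⟨fun _ => 1, σ.symm, fun x' y => ?_⟩
      rw [hσ]
      simp only [Matrix.one_apply, Fintype.prod_boole]
      convert if_congr (show y = x' ∘ σ ↔ ∀ i, x' i = y (σ.symm i) from
        ⟨fun h i => by simp [h], fun h => funext fun i => by simpa using (h (σ i)).symm⟩) rfl rfl
  | one =>
    refine ⟨fun _ => 1, 1, fun x' y => ?_⟩
    simp only [Units.val_one, Matrix.one_apply, Equiv.Perm.coe_one, id_eq]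
    by_cases h : x' = y
    · simp [h]
    · obtain ⟨i, hi⟩ := Function.ne_iff.mp h
      rw [if_neg h, Finset.prod_eq_zero (Finset.mem_univ i) (if_neg hi)]
  | mul x y _ _ hx hy => exact hx.mul hy

theorem sl_not_le_tensorWreathSubgroup [Finite F] {m t : ℕ} (hm : 2 ≤ m) (ht : 2 ≤ t) (e : ι ≃ (Fin t → Fin m))
    (P : GL ι F) : ¬ Geo.specialLinear ι F ≤ Geo.tensorWreathSubgroup m t e P := by
  intro h
  set o : Fin m := ⟨0, by omega⟩
  set l : Fin m := ⟨1, by omega⟩
  have hol : o ≠ l := by simp [o, l]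
  set i₀ : Fin t := ⟨0, by omega⟩
  set i₁ : Fin t := ⟨1, by omega⟩
  have h01 : i₁ ≠ i₀ := by simp [i₀, i₁]
  let x : Fin t → Fin m := fun _ => o
  let y : Fin t → Fin m := fun _ => l
  have hxy : x ≠ y := fun hh => hol (congrFun hh i₀)
  obtain ⟨s, hs, hsv⟩ := exists_mem_standard e P h x y hxy
  obtain ⟨a, σ, ha⟩ := monoTensor_of_mem hs
  rw [hsv] at ha
  let z : Fin t → Fin m := Function.update x i₀ l
  have hzx : z ≠ x := fun hh => hol (by simpa [z, x] using (congrFun hh i₀).symm)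
  have hzy : z ≠ y := fun hh => hol (by simpa [z, x, y, h01] using congrFun hh i₁)
  have e1 := ha x x
  have e2 := ha x y
  have e3 := ha x z
  simp [Matrix.transvection, Matrix.one_apply, Matrix.single_apply, hxy, Ne.symm hxy, Ne.symm hzx, Ne.symm hzy] at e1 e2 e3
  obtain ⟨i, hi⟩ := Finset.prod_eq_zero_iff.mp e3.symm
  rcases eq_or_ne (σ i) i₀ with h0 | h0
  · refine one_ne_zero (e2.trans (Finset.prod_eq_zero hi.1 ?_))
    simpa [y, z, h0] using hi.2
  · refine one_ne_zero (e1.trans (Finset.prod_eq_zero hi.1 ?_))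
    simpa [z, h0] using hi.2

theorem field_degree_dvd {r : ℕ} {K : Subalgebra F (Matrix ι ι F)} (hK : Geo.IsFieldSubalgebra r K) :
    r ∣ Fintype.card ι := by
  let ev : (ι → F) → (K →ₗ[F] (ι → F)) := fun v =>
    { toFun := fun k => (k : Matrix ι ι F) *ᵥ v
      map_add' := fun a b => by simp [Matrix.add_mulVec]
      map_smul' := fun c a => by simp [Matrix.smul_mulVec] }
  have hinj : ∀ v : ι → F, v ≠ 0 → ∀ k ∈ K, k *ᵥ v = 0 → k = 0 := by
    intro v hv k hk hkv
    by_contra h0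
    obtain ⟨l, hl, hkl⟩ := hK.inv k hk h0
    apply hv
    rw [← Matrix.one_mulVec v, ← hkl, hK.comm k hk l hl, ← Matrix.mulVec_mulVec, hkv, Matrix.mulVec_zero]
  let T : Set (Submodule F (ι → F)) := {W | ∃ v : ι → F, v ≠ 0 ∧ W = LinearMap.range (ev v)}
  refine dvd_card_of_family (fun U => ∀ k ∈ K, ∀ u ∈ U, k *ᵥ u ∈ U) T ?_ ?_ ?_ ?_ ?_
  · intro k _ u hu
    simp [(Submodule.mem_bot F).mp hu]
  · rintro U _ hU ⟨v, -, rfl⟩ k hk u hu
    obtain ⟨a, ha, b, ⟨c, rfl⟩, rfl⟩ := Submodule.mem_sup.mp hu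
    rw [Matrix.mulVec_add]
    exact Submodule.add_mem_sup (hU k hk a ha) ⟨⟨k, hk⟩ * c, by simp [ev, Matrix.mulVec_mulVec]⟩
  · rintro U _ hU ⟨v, hv, rfl⟩
    refine or_iff_not_imp_right.mpr fun hne => ?_
    obtain ⟨w, ⟨⟨k, rfl⟩, hwU⟩, hw0⟩ := (Submodule.ne_bot_iff _).mp hne
    have hk0 : (k : Matrix ι ι F) ≠ 0 := fun h => hw0 (by simp [ev, h])
    obtain ⟨l, hl, hkl⟩ := hK.inv k k.2 hk0
    have hvU : v ∈ U := by
      have := hU l hl _ hwU
      simpa [ev, Matrix.mulVec_mulVec, ← hK.comm (k : Matrix ι ι F) k.2 l hl, hkl] using this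
    rintro _ ⟨j, rfl⟩
    exact hU j j.2 v hvU
  · rintro _ ⟨v, hv, rfl⟩
    rw [LinearMap.finrank_range_of_inj, hK.finrank_eq]
    rw [← LinearMap.ker_eq_bot, Submodule.eq_bot_iff]
    intro k hk
    exact Subtype.ext (hinj v hv k k.2 (by simpa [ev] using hk))
  · refine top_le_iff.mp fun v _ => ?_
    rcases eq_or_ne v 0 with rfl | hv
    · exact Submodule.zero_mem _
    · exact le_sSup (show LinearMap.range (ev v) ∈ T from ⟨v, hv, rfl⟩) ⟨1, by simp [ev]⟩

end Cfsg.Agent.Aschbacher
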