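import Cfsg.Agent.Aschbacher.Forms
import Cfsg.Agent.Aschbacher.Involution
import Cfsg.Agent.Aschbacher.Composite.NotLe
import Cfsg.Agent.MaxSub.Asch.Clifford

/-!
Decomposition and tensor stabilisers over very small fields lie in members of other classes.
-/

set_option autoImplicit false
set_option linter.unusedSectionVars false
set_option linter.style.haveILetI false

namespace Cfsg.Agent.Aschbacher

open scoped MatrixGroups Matrix Kronecker
open Module

variable {ι : Type} [Fintype ι] [DecidableEq ι] {F : Type*} [Field F]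

theorem exists_decomp_basis {t m : ℕ} {D : Fin t → Submodule F (ι → F)} (hD : Geo.IsMDecomposition m D) :
    ∃ b : Module.Basis (Fin t × Fin m) F (ι → F), (∀ i a, b (i, a) ∈ D i) ∧
      ∀ i, ∀ v ∈ D i, ∀ j, j ≠ i → ∀ a, b.equivFun v (j, a) = 0 := by
  classical
  have hint : DirectSum.IsInternal D :=
    DirectSum.isInternal_submodule_of_iSupIndep_of_iSup_eq_top hD.indep hD.iSup_eq_top
  let c := hint.collectedBasis fun i => Module.finBasisOfFinrankEq F (D i) (hD.finrank_eq i)
  let b : Module.Basis (Fin t × Fin m) F (ι → F) := c.reindex (Equiv.sigmaEquivProd (Fin t) (Fin m))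
  have hmem : ∀ i a, b (i, a) ∈ D i := fun i a => by
    simp only [b, c, Module.Basis.reindex_apply]
    exact hint.collectedBasis_mem (fun i => Module.finBasisOfFinrankEq F (D i) (hD.finrank_eq i)) ⟨i, a⟩
  refine ⟨b, hmem, fun i v hv j hj a => ?_⟩
  have hspan : D i = Submodule.span F (Set.range fun a => b (i, a)) := by
    refine (Submodule.eq_of_le_of_finrank_le (Submodule.span_le.mpr (Set.range_subset_iff.mpr (hmem i))) ?_).symm
    have hli : LinearIndependent F fun a => b (i, a) :=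
      b.linearIndependent.comp _ fun a a' h => (Prod.mk.inj h).2
    rw [finrank_span_eq_card hli, Fintype.card_fin, hD.finrank_eq i]
  rw [hspan] at hv
  induction hv using Submodule.span_induction with
  | mem x hx => obtain ⟨a', rfl⟩ := hx; simp [Ne.symm hj]
  | zero => simp
  | add x y _ _ hx hy => rw [map_add, Pi.add_apply, hx, hy, add_zero]
  | smul s x _ hx => rw [map_smul, Pi.smul_apply, hx, smul_zero]

theorem mulVec_mem_of_map {t : ℕ} {D : Fin t → Submodule F (ι → F)} {g : GL ι F} {σ : Equiv.Perm (Fin t)}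
    (hσ : ∀ i, (D i).map (Matrix.toLin' (g : Matrix ι ι F)) = D (σ i)) {i : Fin t} {v : ι → F} (hv : v ∈ D i) :
    (g : Matrix ι ι F) *ᵥ v ∈ D (σ i) := by
  rw [← hσ i]
  exact ⟨v, hv, by simp⟩

theorem exists_frame_of_decomp {t : ℕ} {D : Fin t → Submodule F (ι → F)} (hD : Geo.IsMDecomposition 1 D) :
    ∃ b : Module.Basis (Fin t) F (ι → F), (∀ i, b i ∈ D i) ∧ ∀ g ∈ Geo.decompositionStabilizer D,
      ∀ i, ∃ (j : Fin t) (c : F), (g : Matrix ι ι F) *ᵥ b i = c • b j := by
  obtain ⟨b₀, hb, -⟩ := exists_decomp_basis hD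
  let b := b₀.reindex (Equiv.prodUnique (Fin t) (Fin 1))
  have hb' : ∀ i, b i ∈ D i := fun i => by
    simp only [b, Module.Basis.reindex_apply]
    exact hb _ _
  refine ⟨b, hb', fun g hg i => ?_⟩
  obtain ⟨σ, hσ⟩ := hg
  have hmem := mulVec_mem_of_map hσ (hb' i)
  obtain ⟨c, hc⟩ := exists_smul_eq_of_finrank_eq_one (hD.finrank_eq (σ i)) (x := ⟨b (σ i), hb' (σ i)⟩)
    (fun h => b.ne_zero (σ i) (congrArg Subtype.val h)) ⟨_, hmem⟩
  exact ⟨σ i, c, (congrArg Subtype.val hc).symm⟩

theorem lines_two_fixed [Fintype F] (hq : Fintype.card F = 2) {t : ℕ} {D : Fin t → Submodule F (ι → F)}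
    (hD : Geo.IsMDecomposition 1 D) :
    ∃ W : Submodule F (ι → F), W ≠ ⊥ ∧ W ≠ ⊤ ∧ Geo.decompositionStabilizer D ≤ Geo.subspaceStabilizer W := by
  classical
  have h01 : ∀ c : F, c ≠ 0 → c = 1 := by
    intro c hc
    by_contra h1
    have h2 : ({0, 1, c} : Finset F).card = 3 := by
      rw [Finset.card_insert_of_notMem (by simp [Ne.symm hc]), Finset.card_insert_of_notMem (by simp [Ne.symm h1]),
        Finset.card_singleton]
    have := Finset.card_le_univ ({0, 1, c} : Finset F)
    omega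
  obtain ⟨b, -, hb⟩ := exists_frame_of_decomp hD
  set v := ∑ i, b i with hv
  have hv0 : v ≠ 0 := by
    intro h
    have h1 := congrArg (fun w => b.equivFun w ⟨0, by have := hD.two_le; omega⟩) h
    simp [hv] at h1
  refine ⟨Submodule.span F {v}, by simpa using hv0, fun htop => ?_, ?_⟩
  · have h1 := congrArg (fun W : Submodule F (ι → F) => finrank F W) htop
    simp only [finrank_span_singleton hv0, finrank_top] at h1
    rw [Module.finrank_eq_card_basis b, Fintype.card_fin] at h1
    have := hD.two_le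
    omega
  · refine inv_le_subspaceStabilizer fun g hg w hw => ?_
    obtain ⟨π, c, hπ, hc, hgb⟩ := frame_perm (hb g hg)
    obtain ⟨a, rfl⟩ := Submodule.mem_span_singleton.mp hw
    rw [Matrix.mulVec_smul]
    refine Submodule.smul_mem _ _ ?_
    have hgv : (g : Matrix ι ι F) *ᵥ v = v := by
      rw [hv, Matrix.mulVec_sum]
      simp only [hgb, fun i => h01 (c i) (hc i), one_smul]
      exact (Finite.injective_iff_bijective.mp hπ).sum_comp (fun i => b i)
    rw [hgv]
    exact Submodule.mem_span_singleton_self v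

theorem lines_three_quadratic [Fintype F] (hq : Fintype.card F = 3) {t : ℕ} {D : Fin t → Submodule F (ι → F)}
    (hD : Geo.IsMDecomposition 1 D) :
    ∃ Q : (ι → F) → F, Geo.IsNondegenerateQuadraticForm Q ∧
      Geo.decompositionStabilizer D ≤ Geo.quadSimilarityGroup Q := by
  have h2 : (2 : F) ≠ 0 := Ring.two_ne_zero fun h =>
    absurd (FiniteField.even_card_of_char_two h) (by rw [hq]; norm_num)
  obtain ⟨b, -, hb⟩ := exists_frame_of_decomp hD
  refine ⟨basisQuad b, basisQuad_nondegenerate h2 b, fun g hg => ?_⟩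
  obtain ⟨π, c, hπ, hc, hgb⟩ := frame_perm (hb g hg)
  refine ⟨1, fun v => ?_⟩
  rw [Units.val_one, one_mul]
  refine monomial_preserves (σ := RingHom.id F) hπ hgb (fun i => ?_) v v
  have := FiniteField.pow_card_sub_one_eq_one (c i) (hc i)
  rw [hq] at this
  simpa [pow_two] using this

theorem lines_four_unitary [Fintype F] (hq : Fintype.card F = 4) {t : ℕ} {D : Fin t → Submodule F (ι → F)}
    (hD : Geo.IsMDecomposition 1 D) :
    ∃ (σ : F ≃+* F) (f : (ι → F) → (ι → F) → F), Geo.IsUnitaryForm σ f ∧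
      Geo.decompositionStabilizer D ≤ Geo.similarityGroup f := by
  obtain ⟨σ, hσ1, hσ2, hσq⟩ := exists_involution (F := F) (q := 2) (by rw [hq]; norm_num)
  obtain ⟨b, -, hb⟩ := exists_frame_of_decomp hD
  refine ⟨σ, _, basisForm_unitary σ hσ1 hσ2 b, fun g hg => ?_⟩
  obtain ⟨π, c, hπ, hc, hgb⟩ := frame_perm (hb g hg)
  refine ⟨1, fun u v => ?_⟩
  rw [Units.val_one, one_mul]
  refine monomial_preserves (σ := (σ : F →+* F)) hπ hgb (fun i => ?_) u v
  show c i * σ (c i) = 1
  have := FiniteField.pow_card_sub_one_eq_one (c i) (hc i)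
  rw [hq] at this
  rw [hσq, ← pow_succ']
  simpa using this

/-- The alternating form that is the sum of the area forms on the planes of a decomposition. -/
noncomputable def planesForm {t : ℕ} (b : Module.Basis (Fin t × Fin 2) F (ι → F)) (u v : ι → F) : F :=
  ∑ i, (b.equivFun u (i, 0) * b.equivFun v (i, 1) - b.equivFun u (i, 1) * b.equivFun v (i, 0))

theorem planesForm_symplectic {t : ℕ} (b : Module.Basis (Fin t × Fin 2) F (ι → F)) :
    Geo.IsSymplecticForm (planesForm b) := by
  have hskew : ∀ v w, planesForm b v w = - planesForm b w v := fun v w => by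
    simp only [planesForm, ← Finset.sum_neg_distrib]
    exact Finset.sum_congr rfl fun i _ => by ring
  have hr : ∀ v k, planesForm b (b (k, 0)) v = b.equivFun v (k, 1) ∧ planesForm b (b (k, 1)) v = - b.equivFun v (k, 0) := by
    intro v k
    constructor <;>
    · rw [planesForm, Finset.sum_eq_single k (fun i _ hi => by simp [Ne.symm hi]) (by simp)]
      simp
  refine ⟨⟨fun x y v => ?_, fun c x v => ?_, fun v x y => ?_, fun c v x => ?_⟩, hskew, fun v => ?_, fun v hv => ?_⟩
  · simp only [planesForm, map_add, Pi.add_apply, ← Finset.sum_add_distrib]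
    exact Finset.sum_congr rfl fun i _ => by ring
  · simp only [planesForm, map_smul, Pi.smul_apply, smul_eq_mul, Finset.mul_sum]
    exact Finset.sum_congr rfl fun i _ => by ring
  · simp only [planesForm, map_add, Pi.add_apply, ← Finset.sum_add_distrib]
    exact Finset.sum_congr rfl fun i _ => by ring
  · simp only [planesForm, map_smul, Pi.smul_apply, smul_eq_mul, Finset.mul_sum]
    exact Finset.sum_congr rfl fun i _ => by ring
  · simp only [planesForm]
    exact Finset.sum_eq_zero fun i _ => by ring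
  · obtain ⟨⟨k, a⟩, hk⟩ := Function.ne_iff.mp (b.equivFun.map_ne_zero_iff.mpr hv)
    have hex : ∃ x, planesForm b x v ≠ 0 := by
      fin_cases a
      · exact ⟨b (k, 1), by rw [(hr v k).2]; simpa using hk⟩
      · exact ⟨b (k, 0), by rw [(hr v k).1]; simpa using hk⟩
    obtain ⟨x, hx⟩ := hex
    exact ⟨⟨x, hx⟩, ⟨x, by rw [hskew]; simpa using hx⟩⟩

theorem planes_symplectic [Fintype F] {t : ℕ} (hq : Fintype.card F = 2 ∨ (Fintype.card F = 3 ∧ t = 2))
    {D : Fin t → Submodule F (ι → F)} (hD : Geo.IsMDecomposition 2 D) :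
    ∃ f : (ι → F) → (ι → F) → F, Geo.IsSymplecticForm f ∧
      Geo.decompositionStabilizer D ⊓ Geo.specialLinear ι F ≤ Geo.similarityGroup f := by
  classical
  obtain ⟨b, hb, hz⟩ := exists_decomp_basis hD
  refine ⟨planesForm b, planesForm_symplectic b, ?_⟩
  rintro g ⟨⟨σ, hσ⟩, hg⟩
  let A : Fin t → Matrix (Fin 2) (Fin 2) F := fun i c a => b.equivFun ((g : Matrix ι ι F) *ᵥ b (i, a)) (σ i, c)
  have hcoord : ∀ j i c a, b.equivFun ((g : Matrix ι ι F) *ᵥ b (i, a)) (j, c) = if σ i = j then A i c a else 0 := by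
    intro j i c a
    split_ifs with h
    · rw [← h]
    · exact hz (σ i) _ (mulVec_mem_of_map hσ (hb i a)) j (Ne.symm h) c
  have hdet : ∏ i, (A i).det = 1 := by
    have hM : LinearMap.toMatrix b b (Matrix.toLin' (g : Matrix ι ι F)) =
        ((Matrix.blockDiagonal A).submatrix (Equiv.prodCongrRight fun _ : Fin 2 => σ⁻¹) id).submatrix
          (Equiv.prodComm (Fin t) (Fin 2)) (Equiv.prodComm (Fin t) (Fin 2)) := by
      ext ⟨j, c⟩ ⟨i, a⟩
      simp only [Matrix.submatrix_apply, Equiv.prodComm_apply, Prod.swap_prod_mk, Equiv.prodCongrRight_apply, id_eq,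
        Matrix.blockDiagonal_apply, LinearMap.toMatrix_apply, Matrix.toLin'_apply, ← Module.Basis.equivFun_apply, hcoord]
      by_cases h : σ i = j
      · rw [if_pos h, if_pos (by simp [← h])]
        simp [← h]
      · rw [if_neg h, if_neg (fun h' => h (by simp [← h']))]
    have h1 := congrArg Matrix.det hM
    rw [LinearMap.det_toMatrix, LinearMap.det_toLin', Matrix.det_submatrix_equiv_self, Matrix.det_permute,
      Matrix.det_blockDiagonal, det_eq_one_of_mem hg, Equiv.Perm.sign_prodCongrRight] at h1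
    simpa [← pow_two, Int.units_sq] using h1.symm
  have hA : ∀ i, (A i).det ≠ 0 := fun i h0 => one_ne_zero (hdet.symm.trans (Finset.prod_eq_zero (Finset.mem_univ i) h0))
  obtain ⟨c, hc⟩ : ∃ c : Fˣ, ∀ i, (A i).det = c := by
    rcases hq with hq | ⟨hq, rfl⟩
    · refine ⟨1, fun i => ?_⟩
      have := FiniteField.pow_card_sub_one_eq_one _ (hA i)
      rw [hq] at this
      simpa using this
    · refine ⟨Units.mk0 _ (hA 0), fun i => ?_⟩
      rw [Fin.prod_univ_two] at hdet
      have h0 := FiniteField.pow_card_sub_one_eq_one _ (hA 0)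
      rw [hq] at h0
      fin_cases i
      · rfl
      · show (A 1).det = (A 0).det
        rw [show 3 - 1 = 2 from rfl] at h0
        linear_combination (A 0).det * hdet - (A 1).det * h0
  refine ⟨c, fun u v => ?_⟩
  have hx : ∀ w i a, b.equivFun ((g : Matrix ι ι F) *ᵥ w) (σ i, a) =
      A i a 0 * b.equivFun w (i, 0) + A i a 1 * b.equivFun w (i, 1) := by
    intro w i a
    conv_lhs => rw [← b.sum_equivFun w]
    rw [Fintype.sum_prod_type]
    simp only [Matrix.mulVec_sum, map_sum, Finset.sum_apply, Fin.sum_univ_two, Matrix.mulVec_add, map_add,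
      Pi.add_apply, Matrix.mulVec_smul, map_smul, Pi.smul_apply, smul_eq_mul, hcoord, σ.injective.eq_iff]
    rw [Finset.sum_eq_single i (fun j _ hj => by simp [hj]) (by simp)]
    simp [mul_comm]
  simp only [planesForm, Finset.mul_sum]
  rw [← Equiv.sum_comp σ]
  refine Finset.sum_congr rfl fun i _ => ?_
  rw [hx, hx, hx, hx, ← hc i, Matrix.det_fin_two]
  ring

theorem exists_factor_hom {d k : ℕ} (e : ι ≃ Fin d × Fin k) (P : GL ι F) (hk : 0 < k) :
    ∃ φ : Matrix (Fin d) (Fin d) F →ₐ[F] Matrix ι ι F, Function.Injective φ ∧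
      ∀ g ∈ Geo.tensorProductSubgroup d k e P, ∃ a : GL (Fin d) F, ∀ x,
        (g : Matrix ι ι F) * φ x * ((g⁻¹ : GL ι F) : Matrix ι ι F) =
          φ ((a : Matrix (Fin d) (Fin d) F) * x * ((a⁻¹ : GL (Fin d) F) : Matrix (Fin d) (Fin d) F)) := by
  let R := Matrix.reindexAlgEquiv F F e.symm
  let κ : Matrix (Fin d) (Fin d) F →ₐ[F] Matrix (Fin d × Fin k) (Fin d × Fin k) F :=
    AlgHom.ofLinearMap
      { toFun := fun a => a ⊗ₖ (1 : Matrix (Fin k) (Fin k) F)
        map_add' := fun a a' => Matrix.add_kronecker a a' _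
        map_smul' := fun c a => Matrix.smul_kronecker c a _ }
      (Matrix.one_kronecker_one)
      (fun a a' => by
        show (a * a') ⊗ₖ (1 : Matrix (Fin k) (Fin k) F) = (a ⊗ₖ 1) * (a' ⊗ₖ 1)
        rw [← Matrix.mul_kronecker_mul, mul_one])
  let C := MaxSub.Asch.conjHom P
  refine ⟨C.comp (R.toAlgHom.comp κ), ?_, ?_⟩
  · intro a a' h
    have h2 : MaxSub.Asch.conjHom P⁻¹ (C (R (κ a))) = MaxSub.Asch.conjHom P⁻¹ (C (R (κ a'))) :=
      congrArg (MaxSub.Asch.conjHom P⁻¹) h
    have hback : ∀ M, MaxSub.Asch.conjHom P⁻¹ (C M) = M := fun M => by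
      simpa using MaxSub.Asch.conjHom_conjHom_inv P⁻¹ M
    rw [hback, hback] at h2
    ext i j
    have h3 : (a ⊗ₖ (1 : Matrix (Fin k) (Fin k) F)) (i, ⟨0, hk⟩) (j, ⟨0, hk⟩) = (a' ⊗ₖ (1 : Matrix (Fin k) (Fin k) F)) (i, ⟨0, hk⟩) (j, ⟨0, hk⟩) :=
      congrFun (congrFun (R.injective h2) _) _
    simpa using h3
  · rintro g ⟨_, ⟨h, ⟨a, b, hab⟩, rfl⟩, rfl⟩
    refine ⟨a, fun x => ?_⟩
    have hg : (((MulAut.conj P).toMonoidHom ((Geo.glReindex e.symm).toMonoidHom h) : GL ι F) : Matrix ι ι F) =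
        C (R (h : Matrix _ _ F)) := rfl
    have hg' : ((((MulAut.conj P).toMonoidHom ((Geo.glReindex e.symm).toMonoidHom h))⁻¹ : GL ι F) : Matrix ι ι F) =
        C (R ((h⁻¹ : GL _ F) : Matrix _ _ F)) := by
      rw [← map_inv, ← map_inv]; rfl
    show _ * C (R (κ x)) * _ = C (R (κ _))
    rw [hg, hg', ← map_mul C, ← map_mul C, ← map_mul R, ← map_mul R]
    congr 2
    have hinv : ((h⁻¹ : GL _ F) : Matrix (Fin d × Fin k) (Fin d × Fin k) F) =
        ((a⁻¹ : GL (Fin d) F) : Matrix (Fin d) (Fin d) F) ⊗ₖ ((b⁻¹ : GL (Fin k) F) : Matrix (Fin k) (Fin k) F) := by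
      refine left_inv_eq_right_inv (a := (h : Matrix (Fin d × Fin k) (Fin d × Fin k) F)) (Units.inv_mul h) ?_
      rw [hab, ← Matrix.mul_kronecker_mul, Units.mul_inv, Units.mul_inv, Matrix.one_kronecker_one]
    show (h : Matrix _ _ F) * (x ⊗ₖ (1 : Matrix (Fin k) (Fin k) F)) * ((h⁻¹ : GL _ F) : Matrix _ _ F) =
      ((a : Matrix (Fin d) (Fin d) F) * x * ((a⁻¹ : GL (Fin d) F) : Matrix (Fin d) (Fin d) F)) ⊗ₖ (1 : Matrix (Fin k) (Fin k) F)
    rw [hinv, hab, ← Matrix.mul_kronecker_mul, ← Matrix.mul_kronecker_mul, mul_one, Units.mul_inv]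

theorem tensor_two_field [Fintype F] (hq : Fintype.card F = 2) {k : ℕ} (hk : 0 < k) (e : ι ≃ Fin 2 × Fin k)
    (P : GL ι F) :
    ∃ K : Subalgebra F (Matrix ι ι F), Geo.IsFieldSubalgebra 2 K ∧
      Geo.tensorProductSubgroup 2 k e P ≤ Geo.subalgebraNormalizer K := by
  classical
  haveI : Nonempty (Fin k) := ⟨⟨0, hk⟩⟩
  have h01 : ∀ c : F, c = 0 ∨ c = 1 := by
    intro c
    by_contra h
    push Not at h
    have h2 : ({0, 1, c} : Finset F).card = 3 := by
      rw [Finset.card_insert_of_notMem (by simp [Ne.symm h.1]), Finset.card_insert_of_notMem (by simp [Ne.symm h.2]),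
        Finset.card_singleton]
    have := Finset.card_le_univ ({0, 1, c} : Finset F)
    omega
  have htwo : (1 : F) + 1 = 0 := by
    rcases h01 (1 + 1) with h | h
    · exact h
    · exact absurd (by linear_combination h : (1 : F) = 0) one_ne_zero
  obtain ⟨φ, hφ, hφc⟩ := exists_factor_hom e P hk
  let w : Matrix (Fin 2) (Fin 2) F := !![0, 1; 1, 1]
  have hw : w * w = w + 1 := by
    ext i j; fin_cases i <;> fin_cases j <;> simp [w, Matrix.mul_apply, Fin.sum_univ_two]
  let K₀ : Subalgebra F (Matrix (Fin 2) (Fin 2) F) :=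
    { carrier := {x | ∃ a c : F, x = a • 1 + c • w}
      mul_mem' := by
        rintro _ _ ⟨a, c, rfl⟩ ⟨a', c', rfl⟩
        refine ⟨a * a' + c * c', a * c' + c * a' + c * c', ?_⟩
        simp only [mul_add, add_mul, Matrix.smul_mul, Matrix.mul_smul, one_mul, mul_one, hw, smul_add, add_smul,
          smul_smul]
        rw [mul_comm a' a, mul_comm c' a, mul_comm a' c, mul_comm c' c]
        abel
      add_mem' := by
        rintro _ _ ⟨a, c, rfl⟩ ⟨a', c', rfl⟩
        exact ⟨a + a', c + c', by rw [add_smul, add_smul]; abel⟩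
      algebraMap_mem' := fun r => ⟨r, 0, by rw [zero_smul, add_zero, Algebra.algebraMap_eq_smul_one]⟩ }
  have hK₀w : w ∈ K₀ := ⟨0, 1, by simp⟩
  refine ⟨K₀.map φ, ⟨?_, ?_, ?_⟩, ?_⟩
  · rintro _ ⟨x, ⟨a, c, rfl⟩, rfl⟩ _ ⟨y, ⟨a', c', rfl⟩, rfl⟩
    rw [← map_mul, ← map_mul]
    congr 1
    simp only [mul_add, add_mul, Matrix.smul_mul, Matrix.mul_smul, one_mul, mul_one, smul_smul, mul_comm a, mul_comm c]
    abel
  · rintro _ ⟨x, ⟨a, c, rfl⟩, rfl⟩ h0
    have hww : w * (w + 1) = 1 := by
      rw [mul_add, hw, mul_one, add_right_comm, ← two_smul F w, show (2 : F) = 0 by rw [← htwo]; norm_num, zero_smul,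
        zero_add]
    rcases h01 a with rfl | rfl <;> rcases h01 c with rfl | rfl
    · exact absurd (by simp) h0
    · exact ⟨φ (w + 1), ⟨_, add_mem hK₀w (one_mem _), rfl⟩, (map_mul φ _ _).symm.trans (by simp [hww])⟩
    · exact ⟨φ 1, ⟨_, one_mem _, rfl⟩, (map_mul φ _ _).symm.trans (by simp)⟩
    · exact ⟨φ w, ⟨_, hK₀w, rfl⟩, (map_mul φ _ _).symm.trans (by
        rw [one_smul, one_smul, add_comm (1 : Matrix (Fin 2) (Fin 2) F) w,
          show (w + 1) * w = w * (w + 1) by rw [mul_add, add_mul, mul_one, one_mul], hww, map_one])⟩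
  · have hli : LinearIndependent F ![(1 : Matrix (Fin 2) (Fin 2) F), w] := by
      rw [LinearIndependent.pair_iff]
      intro a c h
      have h1 := congrFun (congrFun h 0) 0
      have h2 := congrFun (congrFun h 0) 1
      simp [w] at h1 h2
      exact ⟨h1, h2⟩
    have hK : Subalgebra.toSubmodule K₀ = Submodule.span F (Set.range ![(1 : Matrix (Fin 2) (Fin 2) F), w]) := by
      refine le_antisymm ?_ (Submodule.span_le.mpr ?_)
      · rintro _ ⟨a, c, rfl⟩
        exact add_mem (Submodule.smul_mem _ _ (Submodule.subset_span ⟨0, rfl⟩))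
          (Submodule.smul_mem _ _ (Submodule.subset_span ⟨1, rfl⟩))
      · rintro _ ⟨i, rfl⟩
        fin_cases i
        · exact one_mem K₀
        · exact hK₀w
    have h1 : finrank F K₀ = 2 := by
      show finrank F (Subalgebra.toSubmodule K₀) = 2
      rw [hK, finrank_span_eq_card hli, Fintype.card_fin]
    exact (Subalgebra.equivMapOfInjective K₀ φ hφ).toLinearEquiv.finrank_eq.symm.trans h1
  · -- the normaliser
    have hstep : ∀ g ∈ Geo.tensorProductSubgroup 2 k e P, ∀ x ∈ K₀.map φ,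
        (g : Matrix ι ι F) * x * ((g⁻¹ : GL ι F) : Matrix ι ι F) ∈ K₀.map φ := by
      rintro g hg _ ⟨x, ⟨a', c', rfl⟩, rfl⟩
      obtain ⟨a, hac⟩ := hφc g hg
      set y := (a : Matrix (Fin 2) (Fin 2) F) * w * ((a⁻¹ : GL (Fin 2) F) : Matrix (Fin 2) (Fin 2) F) with hy
      have hyK : y ∈ K₀ := by
        have htr : y.trace = 1 := by
          rw [hy, Matrix.trace_units_conj, Matrix.trace_fin_two]
          simp [w]
        have hdet : y.det = 1 := by
          rw [hy, Matrix.det_units_conj, Matrix.det_fin_two]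
          simp only [w, Matrix.of_apply, Matrix.cons_val', Matrix.cons_val_zero, Matrix.cons_val_one,
            Matrix.cons_val_fin_one, mul_one, zero_mul, zero_sub]
          linear_combination -htwo
        rw [Matrix.trace_fin_two] at htr
        rw [Matrix.det_fin_two] at hdet
        have key : ∀ M : Matrix (Fin 2) (Fin 2) F, M 0 0 + M 1 1 = 1 → M 0 0 * M 1 1 - M 0 1 * M 1 0 = 1 →
            M ∈ K₀ := by
          intro M h1 h2
          refine ⟨M 0 0, 1, ?_⟩
          rcases h01 (M 0 0) with e0 | e0 <;> rcases h01 (M 1 1) with e1 | e1 <;> rcases h01 (M 0 1) with e2 | e2 <;>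
            rcases h01 (M 1 0) with e3 | e3 <;> rw [e0, e1] at h1 <;> rw [e0, e1, e2, e3] at h2 <;>
            first
              | (exfalso; simp [htwo] at h1; done)
              | (exfalso; simp at h2; done)
              | (ext i j; fin_cases i <;> fin_cases j <;> simp [w, e0, e1, e2, e3, htwo])
        exact key y htr hdet
      refine ⟨a' • 1 + c' • y, add_mem (Subalgebra.smul_mem _ (one_mem _) _) (Subalgebra.smul_mem _ hyK _), ?_⟩
      show φ (a' • 1 + c' • y) = (g : Matrix ι ι F) * φ (a' • 1 + c' • w) * ((g⁻¹ : GL ι F) : Matrix ι ι F)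
      rw [hac]
      congr 1
      simp only [hy, mul_add, add_mul, Matrix.mul_smul, Matrix.smul_mul, mul_one, ← Units.val_mul, mul_inv_cancel,
        Units.val_one]
    intro g hg x
    refine ⟨hstep g hg x, fun hx => ?_⟩
    have := hstep g⁻¹ (inv_mem hg) _ hx
    simpa [mul_assoc] using this

end Cfsg.Agent.Aschbacher
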