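import Cfsg.Agent.Aschbacher.Linear
import Cfsg.Agent.MaxSub.Asch.ClassTwo

/-!
Groups of symplectic type in the sense of the sixth class: their commutators are scalars, their order determines the
dimension, and the special linear group does not normalise them.
-/

set_option autoImplicit false
set_option linter.unusedSectionVars false
set_option linter.style.haveILetI false

namespace Cfsg.Agent.Aschbacher

open scoped MatrixGroups Matrix commutatorElement
open Module
open Cfsg.Agent.MaxSub.Asch (conjHom linearIndependent_of_characters alg_eq_top)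

theorem lcs_characteristic {G : Type*} [Group G] : ∀ k : ℕ,
    ((⊤ : Subgroup G).lowerCentralSeries k).Characteristic
  | 0 => by rw [Subgroup.lowerCentralSeries_zero]; exact Subgroup.topCharacteristic
  | k + 1 => by
    haveI := lcs_characteristic (G := G) k
    rw [Subgroup.lowerCentralSeries_succ]
    infer_instance

/-- In a nilpotent group whose characteristic abelian subgroups are central, the commutator subgroup is central. -/
theorem commutator_le_center {G : Type*} [Group G] [Group.IsNilpotent G]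
    (h : ∀ A : Subgroup G, A.Characteristic → IsMulCommutative A → A ≤ Subgroup.center G) :
    ⁅(⊤ : Subgroup G), ⊤⁆ ≤ Subgroup.center G := by
  classical
  by_contra hcon
  set L : ℕ → Subgroup G := fun k => (⊤ : Subgroup G).lowerCentralSeries k with hL
  have hex : ∃ k, L k ≤ Subgroup.center G := by
    obtain ⟨k, hk⟩ := Subgroup.nilpotent_iff_lowerCentralSeries.mp ‹Group.IsNilpotent G›
    exact ⟨k, by simp [hL, hk]⟩
  have h1 : L 1 = ⁅(⊤ : Subgroup G), ⊤⁆ := by
    simp [hL, Subgroup.lowerCentralSeries_succ, Subgroup.lowerCentralSeries_zero]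
  have hk := Nat.find_spec hex
  obtain ⟨j, hj⟩ : ∃ j, Nat.find hex = j + 2 := by
    refine ⟨Nat.find hex - 2, ?_⟩
    have : 2 ≤ Nat.find hex := by
      rw [Nat.le_find_iff]
      intro l hl
      interval_cases l
      · exact fun h0 => hcon (le_trans le_top (by simpa [hL, Subgroup.lowerCentralSeries_zero] using h0))
      · rw [h1]; exact hcon
    omega
  have hnot : ¬ L (j + 1) ≤ Subgroup.center G := Nat.find_min hex (by omega)
  rw [hj] at hk
  have hsucc : L (j + 2) = ⁅L (j + 1), ⊤⁆ := Subgroup.lowerCentralSeries_succ _ _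
  have hle : L (j + 1) ≤ ⁅(⊤ : Subgroup G), ⊤⁆ := by
    rw [hL]
    simp only [Subgroup.lowerCentralSeries_succ]
    exact Subgroup.commutator_mono le_top le_rfl
  refine hnot (h (L (j + 1)) (lcs_characteristic (G := G) (j + 1)) ⟨⟨fun a b => ?_⟩⟩)
  have h3 : ⁅⁅(⊤ : Subgroup G), (⊤ : Subgroup G)⁆, L (j + 1)⁆ = ⊥ := by
    refine Subgroup.commutator_commutator_eq_bot_of_rotate ?_ ?_
    · rw [Subgroup.commutator_comm (⊤ : Subgroup G) (L (j + 1)), ← hsucc, Subgroup.commutator_eq_bot_iff_le_centralizer,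
        Subgroup.coe_top, Subgroup.centralizer_univ]
      exact hk
    · rw [← hsucc, Subgroup.commutator_eq_bot_iff_le_centralizer, Subgroup.coe_top, Subgroup.centralizer_univ]
      exact hk
  have h4 : ⁅L (j + 1), L (j + 1)⁆ = ⊥ := le_bot_iff.mp (h3 ▸ Subgroup.commutator_mono hle le_rfl)
  refine Subtype.ext ?_
  exact ((Subgroup.mem_centralizer_iff.mp ((Subgroup.commutator_eq_bot_iff_le_centralizer.mp h4) a.2)) b b.2).symm

variable {ι : Type} [Fintype ι] [DecidableEq ι] {F : Type*} [Field F]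

/-- An absolutely irreducible group whose commutators are scalars. -/
structure ScalarComm (R : Subgroup (GL ι F)) : Prop where
  absIrred : Geo.ActsAbsolutelyIrreducibly (Geo.matrixSet R)
  comm_scalar : ∀ x ∈ R, ∀ y ∈ R, ⁅x, y⁆ ∈ Geo.scalars ι F

namespace ScalarComm

variable {R : Subgroup (GL ι F)}

theorem center_iff [Nonempty ι] (h : ScalarComm R) (x : R) :
    x ∈ Subgroup.center R ↔ (x : GL ι F) ∈ Geo.scalars ι F := by
  constructor
  · intro hx
    exact mem_scalars_of_commute h.absIrred fun y hy =>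
      (congrArg Subtype.val (Subgroup.mem_center_iff.mp hx ⟨y, hy⟩)).symm
  · intro hx
    exact Subgroup.mem_center_iff.mpr fun y => Subtype.ext (scalars_central hx _)

theorem exists_twist [Nonempty ι] (h : ScalarComm R) {x : GL ι F} (hx : x ∈ R) (hs : x ∉ Geo.scalars ι F) :
    ∃ (y : GL ι F) (c : F), c ≠ 1 ∧ (y : Matrix ι ι F) * (x : Matrix ι ι F) = c • ((x : Matrix ι ι F) * (y : Matrix ι ι F)) := by
  by_contra hcon
  push Not at hcon
  refine hs (mem_scalars_of_commute h.absIrred fun y hy => ?_)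
  obtain ⟨c, hc⟩ := (Geo.mem_scalars_iff _).mp (h.comm_scalar y hy x hx)
  have h1 : ((⁅y, x⁆ * (x * y) : GL ι F) : Matrix ι ι F) = ((y * x : GL ι F) : Matrix ι ι F) := by
    congr 1; rw [commutatorElement_def]; group
  rw [Units.val_mul, hc, Units.val_mul, Units.val_mul, Matrix.smul_mul, one_mul] at h1
  by_cases hc1 : (c : F) = 1
  · rw [hc1, one_smul] at h1
    exact (Units.ext (by simpa using h1))
  · exact absurd h1.symm (hcon y c hc1)

theorem trace_eq_zero [Nonempty ι] (h : ScalarComm R) {x : GL ι F} (hx : x ∈ R) (hs : x ∉ Geo.scalars ι F) :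
    (x : Matrix ι ι F).trace = 0 := by
  obtain ⟨y, c, hc, hrel⟩ := h.exists_twist hx hs
  have h1 := congrArg (fun M => (((y⁻¹ : GL ι F) : Matrix ι ι F) * M).trace) hrel
  simp only [Matrix.mul_smul, Matrix.trace_smul, ← mul_assoc, Units.inv_mul, one_mul, smul_eq_mul] at h1
  rw [Matrix.trace_units_conj' y (x : Matrix ι ι F)] at h1
  rcases mul_left_eq_self₀.mp h1.symm with h2 | h2
  · exact absurd h2 hc
  · exact h2

theorem card_eq [Fintype F] [Nonempty ι] (h : ScalarComm R) :
    Nat.card R = Fintype.card ι ^ 2 * Nat.card (Subgroup.center R) := by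
  classical
  haveI : Fintype R := Fintype.ofFinite R
  let κ := R ⧸ Subgroup.center R
  haveI : Fintype κ := Fintype.ofFinite κ
  have hcs : ∀ y x : R, ∃ c : Fˣ, ((⁅(y : GL ι F), (x : GL ι F)⁆ : GL ι F) : Matrix ι ι F) = (c : F) • 1 :=
    fun y x => (Geo.mem_scalars_iff _).mp (h.comm_scalar _ y.2 _ x.2)
  choose cs hcs using hcs
  let v : κ → Matrix ι ι F := fun j => ((j.out : R) : GL ι F)
  have hconj : ∀ y x : R, ((y : GL ι F) * x * (y : GL ι F)⁻¹) = ⁅(y : GL ι F), (x : GL ι F)⁆ * x := by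
    intro y x; rw [commutatorElement_def]; group
  have hind : LinearIndependent F v := by
    refine linearIndependent_of_characters (α := R)
      (fun y => (conjHom (y : GL ι F)).toLinearMap) v (fun j y => (cs y j.out : F))
      (fun j => ((j.out : R) : GL ι F).ne_zero) (fun j y => ?_) fun i j hij => ?_
    · show ((y : GL ι F) : Matrix ι ι F) * v j * (((y : GL ι F)⁻¹ : GL ι F) : Matrix ι ι F) = _
      simp only [v]
      rw [← Units.val_mul, ← Units.val_mul, hconj, Units.val_mul, hcs, Matrix.smul_mul, one_mul]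
    · rw [← i.out_eq', ← j.out_eq', QuotientGroup.eq, h.center_iff]
      refine mem_scalars_of_commute h.absIrred fun y hy => ?_
      have hi : ⁅y, ((i.out : R) : GL ι F)⁆ = ⁅y, ((j.out : R) : GL ι F)⁆ :=
        Units.ext ((hcs ⟨y, hy⟩ i.out).trans ((congrArg (· • (1 : Matrix ι ι F)) (hij ⟨y, hy⟩)).trans (hcs ⟨y, hy⟩ j.out).symm))
      have hz : ∀ g, g * ⁅y, ((j.out : R) : GL ι F)⁆ = ⁅y, ((j.out : R) : GL ι F)⁆ * g :=
        scalars_central (h.comm_scalar _ hy _ j.out.2)
      have e1 : y * i.out * y⁻¹ = ⁅y, ((j.out : R) : GL ι F)⁆ * i.out := by rw [← hi, commutatorElement_def]; group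
      have e2 : y * j.out * y⁻¹ = ⁅y, ((j.out : R) : GL ι F)⁆ * j.out := by rw [commutatorElement_def]; group
      simp only [Subgroup.coe_mul, Subgroup.coe_inv]
      refine (mul_inv_eq_iff_eq_mul.mp ?_).symm
      calc y * ((((i.out : R) : GL ι F))⁻¹ * j.out) * y⁻¹
          = (y * i.out * y⁻¹)⁻¹ * (y * j.out * y⁻¹) := by group
        _ = _ := by rw [e1, e2]; group
  have hspan : ⊤ ≤ Submodule.span F (Set.range v) := by
    rw [← Algebra.top_toSubmodule, ← alg_eq_top h.absIrred, Algebra.adjoin_eq_span]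
    refine Submodule.span_le.mpr fun a ha => ?_
    have ha' : a ∈ R.toSubmonoid.map (Units.coeHom (Matrix ι ι F)) :=
      (Submonoid.closure_le.mpr (show Geo.matrixSet R ⊆ R.toSubmonoid.map (Units.coeHom (Matrix ι ι F)) from
        fun b hb => hb)) ha
    obtain ⟨x, hx, rfl⟩ := ha'
    obtain ⟨z, hz⟩ := QuotientGroup.mk_out_eq_mul (Subgroup.center R) ⟨x, hx⟩
    obtain ⟨c, hc⟩ := (Geo.mem_scalars_iff _).mp ((h.center_iff z).mp z.2)
    have hv : v (QuotientGroup.mk ⟨x, hx⟩) = (c : F) • (x : Matrix ι ι F) := by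
      show ((((QuotientGroup.mk ⟨x, hx⟩ : κ).out : R) : GL ι F) : Matrix ι ι F) = _
      rw [hz, Subgroup.coe_mul, Units.val_mul, hc, Matrix.mul_smul, mul_one]
    have : (x : Matrix ι ι F) = (c : F)⁻¹ • v (QuotientGroup.mk ⟨x, hx⟩) := by
      rw [hv, smul_smul, inv_mul_cancel₀ c.ne_zero, one_smul]
    show (x : Matrix ι ι F) ∈ Submodule.span F (Set.range v)
    rw [this]
    exact Submodule.smul_mem _ _ (Submodule.subset_span ⟨_, rfl⟩)
  have hcard := Module.finrank_eq_card_basis (Basis.mk hind hspan)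
  rw [Module.finrank_matrix, Module.finrank_self, mul_one] at hcard
  rw [Subgroup.card_eq_card_quotient_mul_card_subgroup (Subgroup.center R), Nat.card_eq_fintype_card,
    ← hcard, pow_two]

/-- Two transvection parameters with different squares show that the group centralises the transvection. -/
theorem commute_of_transvection [Nonempty ι] (h : ScalarComm R) (hnF : ((Fintype.card ι : ℕ) : F) ≠ 0)
    (hn3 : 3 ≤ Fintype.card ι) {v w : ι → F} (hwv : w ⬝ᵥ v = 0) {t t' : GL ι F} {a b : F} (ha : a ≠ 0)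
    (hab : a ^ 2 ≠ b ^ 2) (hb : b ≠ 0) (ht : (t : Matrix ι ι F) = 1 + a • Matrix.vecMulVec v w)
    (ht' : (t' : Matrix ι ι F) = 1 + b • Matrix.vecMulVec v w)
    (htn : ∀ x ∈ R, t * x * t⁻¹ ∈ R) (htn' : ∀ x ∈ R, t' * x * t'⁻¹ ∈ R) :
    ∀ x ∈ R, Matrix.vecMulVec v w * (x : Matrix ι ι F) = (x : Matrix ι ι F) * Matrix.vecMulVec v w := by
  set E := Matrix.vecMulVec v w with hEdef
  have hEE : E * E = 0 := by
    rw [hEdef, Matrix.vecMulVec_mul_vecMulVec, hwv]; simp
  have hEtr : E.trace = 0 := by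
    rw [Matrix.trace_vecMulVec, dotProduct_comm]; exact hwv
  intro x hx
  by_contra hne
  set A : Matrix ι ι F := ((x⁻¹ : GL ι F) : Matrix ι ι F) * E * (x : Matrix ι ι F) with hAdef
  have hAtr : A.trace = 0 := by
    rw [hAdef, Matrix.trace_units_conj' x E]; exact hEtr
  have hAv : A = Matrix.vecMulVec (((x⁻¹ : GL ι F) : Matrix ι ι F) *ᵥ v) (Matrix.vecMul w (x : Matrix ι ι F)) := by
    rw [hAdef, hEdef, Matrix.mul_vecMulVec, Matrix.vecMulVec_mul]
  have key : ∀ (c : F) (s : GL ι F), c ≠ 0 → (s : Matrix ι ι F) = 1 + c • E → (∀ y ∈ R, s * y * s⁻¹ ∈ R) →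
      c ^ 2 * (A * E).trace = (Fintype.card ι : F) := by
    intro c s hc hs hsn
    have hsinv : ((s⁻¹ : GL ι F) : Matrix ι ι F) = 1 + (-c) • E := by
      have h1 : (s : Matrix ι ι F) * (1 + (-c) • E) = 1 := by
        simp [hs, mul_add, add_mul, hEE]
      calc ((s⁻¹ : GL ι F) : Matrix ι ι F) = ((s⁻¹ : GL ι F) : Matrix ι ι F) * ((s : Matrix ι ι F) * (1 + (-c) • E)) := by
            rw [h1, mul_one]
        _ = _ := by rw [← mul_assoc, ← Units.val_mul, inv_mul_cancel, Units.val_one, one_mul]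
    let g : GL ι F := x⁻¹ * (s * x * s⁻¹)
    have hgR : g ∈ R := mul_mem (inv_mem hx) (hsn x hx)
    have hgv : (g : Matrix ι ι F) = (1 + c • A) * (1 + (-c) • E) := by
      simp only [g, Units.val_mul, hsinv, hs, hAdef]
      rw [← mul_assoc, ← mul_assoc]
      congr 1
      rw [mul_add, add_mul, mul_one, ← Units.val_mul, inv_mul_cancel, Units.val_one, Matrix.mul_smul,
        Matrix.smul_mul]
    by_cases hgs : g ∈ Geo.scalars ι F
    · exfalso
      obtain ⟨d, hd⟩ := (Geo.mem_scalars_iff g).mp hgs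
      obtain ⟨u, hu0, hu1, hu2⟩ := exists_mulVec_kills hn3 w (Matrix.vecMul w (x : Matrix ι ι F))
      have hgu : (g : Matrix ι ι F) *ᵥ u = u := by
        have hEu : E *ᵥ u = 0 := by rw [hEdef, Matrix.vecMulVec_mulVec, hu1]; simp
        have hAu : A *ᵥ u = 0 := by rw [hAv, Matrix.vecMulVec_mulVec, hu2]; simp
        rw [hgv, ← Matrix.mulVec_mulVec, Matrix.add_mulVec 1 ((-c) • E), Matrix.one_mulVec, Matrix.smul_mulVec, hEu,
          smul_zero, add_zero, Matrix.add_mulVec, Matrix.one_mulVec, Matrix.smul_mulVec, hAu, smul_zero, add_zero]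
      rw [hd, Matrix.smul_mulVec, Matrix.one_mulVec] at hgu
      have hd1 : (d : F) = 1 := smul_left_injective F hu0 (hgu.trans (one_smul F u).symm)
      rw [hd1, one_smul] at hd
      have h2 : s * x * s⁻¹ = x := by
        have : g = 1 := Units.ext (by simpa using hd)
        exact (inv_mul_eq_one.mp this).symm
      have h3 := congrArg Units.val (mul_inv_eq_iff_eq_mul.mp h2)
      rw [Units.val_mul, Units.val_mul, hs, add_mul, mul_add, one_mul, mul_one, Matrix.smul_mul, Matrix.mul_smul,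
        add_right_inj] at h3
      exact hne (smul_right_injective _ hc h3)
    · have htr0 := h.trace_eq_zero hgR hgs
      rw [hgv, trace_one_add_mul c hEtr hAtr, sub_eq_zero] at htr0
      exact htr0.symm
  have h1 := key a t ha ht htn
  have h2 := key b t' hb ht' htn'
  have h3 : (A * E).trace ≠ 0 := fun h => hnF (by rw [← h1, h, mul_zero])
  exact hab (mul_right_cancel₀ h3 (h1.trans h2.symm))

theorem sl_not_le_normalizer (h : ScalarComm R) (hnF : ((Fintype.card ι : ℕ) : F) ≠ 0) (hn3 : 3 ≤ Fintype.card ι)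
    {b : F} (hb : b ≠ 0) (hb2 : b ^ 2 ≠ 1) : ¬ Geo.specialLinear ι F ≤ Geo.subgroupNormalizer R := by
  intro hle
  haveI : Nonempty ι := Fintype.card_pos_iff.mp (by omega)
  have hall : ∀ z ∈ R, ∃ c : F, (z : Matrix ι ι F) = c • (1 : Matrix ι ι F) := by
    intro z hz
    refine sl_commutant (by omega) fun i j hij => ?_
    obtain ⟨t, ht, htv⟩ := exists_transvection hij (1 : F)
    obtain ⟨t', ht', htv'⟩ := exists_transvection hij b
    have hnm : ∀ s ∈ Geo.specialLinear ι F, ∀ r ∈ R, s * r * s⁻¹ ∈ R := fun s hs r hr =>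
      (Subgroup.mem_normalizer_iff.mp (hle hs) r).mp hr
    have h1 := h.commute_of_transvection hnF hn3 (v := Pi.single i (1 : F)) (w := Pi.single j (1 : F))
      (by rw [single_dotProduct, Pi.single_eq_of_ne hij.symm, mul_zero]) one_ne_zero
      (by rw [one_pow]; exact hb2.symm) hb
      (t := t) (t' := t') (by rw [htv, transvection_eq_vecMulVec]) (by rw [htv', transvection_eq_vecMulVec])
      (hnm t ht) (hnm t' ht') z hz
    rw [transvection_eq_vecMulVec, one_smul, mul_add, add_mul, mul_one, one_mul, h1]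
  refine irr_not_le_scalars (irr_iff.mpr h.absIrred.1) (by omega) fun z hz => ?_
  obtain ⟨c, hc⟩ := hall z hz
  exact mem_scalars_of_smul hc

end ScalarComm

/-- Every element of the centre of an absolutely irreducible group is a scalar, and the centre is cyclic. -/
theorem center_cyclic [Nonempty ι] [Finite F] {R : Subgroup (GL ι F)}
    (habs : Geo.ActsAbsolutelyIrreducibly (Geo.matrixSet R)) : IsCyclic (Subgroup.center R) := by
  have hs : ∀ a : Subgroup.center R, ∃ c : Fˣ, (((a : R) : GL ι F) : Matrix ι ι F) = (c : F) • 1 := fun a =>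
    (Geo.mem_scalars_iff _).mp (mem_scalars_of_commute habs fun y hy =>
      (congrArg Subtype.val (Subgroup.mem_center_iff.mp a.2 ⟨y, hy⟩)).symm)
  choose c hc using hs
  have hinj : ∀ a b, c a = c b → a = b := fun a b e => Subtype.ext (Subtype.ext (Units.ext (by rw [hc a, hc b, e])))
  refine isCyclic_of_injective_ringHom
    { toFun := fun a => (c a : F)
      map_one' := MaxSub.Asch.smul_one_inj (ι := ι) (by rw [← hc]; simp)
      map_mul' := fun a a' => MaxSub.Asch.smul_one_inj (ι := ι) (by rw [← hc]; simp [hc a, hc a', smul_smul, mul_comm]) }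
    fun a b e => hinj a b (Units.ext e)

/-- The arithmetic and structural content of the data of the sixth class in dimension at least three. -/
theorem symplecticData [Fintype F] {r : ℕ} {R : Subgroup (GL ι F)} (hn : 3 ≤ Fintype.card ι)
    (hR : Geo.IsLinearSymplecticTypeData r R) :
    r.Prime ∧ (r : F) ≠ 0 ∧ ScalarComm R ∧ (∃ m, 1 ≤ m ∧ Fintype.card ι = r ^ m) ∧
      ∃ p e : ℕ, p.Prime ∧ Fintype.card F = p ^ e ∧
        ((r = 2 ∧ e = 1 ∧ p % 4 = 1) ∨ (Odd r ∧ Odd e ∧ r ∣ p ^ e - 1 ∧ ∀ d, 0 < d → d < e → ¬ r ∣ p ^ d - 1)) := by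
  haveI : Nonempty ι := Fintype.card_pos_iff.mp (by omega)
  obtain ⟨hS, habs, p, e, hrp, ⟨hp, hcp, hf, hdvd, hmin⟩, hcases⟩ := hR
  haveI := hcp
  have hrpr := hS.prime
  haveI : Fact r.Prime := ⟨hrpr⟩
  have hr0 : (r : F) ≠ 0 := fun h0 =>
    hrp ((Nat.prime_dvd_prime_iff_eq hp hrpr).mp ((CharP.cast_eq_zero_iff F p r).mp h0)).symm
  have hN : Nat.card (Subgroup.center R) = Monoid.exponent R ∧
      ((r = 2 ∧ e = 1 ∧ Nat.card (Subgroup.center R) = 4 ∧ ∃ m, Nat.card R = r ^ (2 * m) * 4) ∨
       (Odd r ∧ Odd e ∧ Nat.card (Subgroup.center R) = r ∧ ∃ m, Nat.card R = r ^ (2 * m) * r)) := by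
    rw [hS.exponent_eq]
    rcases hcases with ⟨ho, he, hc, m, -, hm⟩ | ⟨h2, he, hc, -, m, hm⟩ | ⟨-, -, hι, -⟩
    · exact ⟨by rw [hc, show Nat.gcd 2 r = 1 from Nat.coprime_two_left.mpr ho, mul_one],
        Or.inr ⟨ho, he, hc, m, by rw [hm, pow_add, pow_one, mul_comm]⟩⟩
    · exact ⟨by rw [hc, h2]; norm_num, Or.inl ⟨h2, he, hc, m, by rw [hm, h2, pow_add, mul_comm]; norm_num⟩⟩
    · omega
  haveI hnil : Group.IsNilpotent R := hS.pGroup.isNilpotent
  have hcyc := center_cyclic habs
  have hAZ : ∀ A : Subgroup R, A.Characteristic → IsMulCommutative A → A ≤ Subgroup.center R := by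
    intro A hA hAc
    haveI := hA
    haveI : (A ⊔ Subgroup.center R).Characteristic := inferInstance
    have hcomm : IsMulCommutative (A ⊔ Subgroup.center R : Subgroup R) := by
      refine ⟨⟨fun ⟨x, hx⟩ ⟨y, hy⟩ => Subtype.ext ?_⟩⟩
      obtain ⟨a, ha, z, hz, rfl⟩ := Subgroup.mem_sup_of_normal_right.mp hx
      obtain ⟨b, hb, w, hw, rfl⟩ := Subgroup.mem_sup_of_normal_right.mp hy
      have hab : Commute a b := congrArg Subtype.val (hAc.is_comm.comm ⟨a, ha⟩ ⟨b, hb⟩)
      have hzc : ∀ g, Commute g z := fun g => Subgroup.mem_center_iff.mp hz g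
      have hwc : ∀ g, Commute g w := fun g => Subgroup.mem_center_iff.mp hw g
      exact ((hab.mul_right (hwc _)).mul_left ((hzc _).symm.mul_right (hwc z))).eq
    haveI := hS.cyclic_of_characteristic _ inferInstance hcomm
    refine le_sup_left.trans (Subgroup.eq_of_le_of_card_ge le_sup_right ?_).ge
    rw [hN.1, ← IsCyclic.exponent_eq_card (α := (A ⊔ Subgroup.center R : Subgroup R))]
    exact Nat.le_of_dvd (Monoid.exponent_ne_zero_of_finite (G := R)).bot_lt
      (Monoid.exponent_dvd_of_monoidHom (A ⊔ Subgroup.center R).subtype Subtype.val_injective)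
  have hSC : ScalarComm R := by
    refine ⟨habs, fun x hx y hy => mem_scalars_of_commute habs fun z hz => ?_⟩
    have hmem := commutator_le_center hAZ (Subgroup.commutator_mem_commutator (H₁ := (⊤ : Subgroup R))
      (H₂ := ⊤) (g₁ := ⟨x, hx⟩) (g₂ := ⟨y, hy⟩) trivial trivial)
    exact (congrArg Subtype.val (Subgroup.mem_center_iff.mp hmem ⟨z, hz⟩)).symm
  have hcard := hSC.card_eq
  have hdim : ∃ m, 1 ≤ m ∧ Fintype.card ι = r ^ m := by
    have key : ∀ m : ℕ, Fintype.card ι ^ 2 = r ^ (2 * m) → ∃ m, 1 ≤ m ∧ Fintype.card ι = r ^ m := by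
      intro m hm
      have h1 : Fintype.card ι = r ^ m := Nat.pow_left_injective two_ne_zero (by simp only [hm, ← pow_mul]; rw [mul_comm])
      refine ⟨m, ?_, h1⟩
      by_contra h0
      rw [show m = 0 by omega, pow_zero] at h1
      omega
    rcases hN.2 with ⟨-, -, hc, m, hm⟩ | ⟨-, -, hc, m, hm⟩
    · rw [hm, hc] at hcard
      exact key m (mul_right_cancel₀ (by norm_num) hcard).symm
    · rw [hm, hc] at hcard
      exact key m (mul_right_cancel₀ hrpr.ne_zero hcard).symm
  refine ⟨hrpr, hr0, hSC, hdim, p, e, hp, hf, ?_⟩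
  rcases hN.2 with ⟨h2, he, hc, -⟩ | ⟨ho, he, hc, -⟩
  · refine Or.inl ⟨h2, he, ?_⟩
    rw [hc, he, pow_one] at hdvd
    have := hp.two_le
    clear * - hdvd this
    omega
  · refine Or.inr ⟨ho, he, hc ▸ hdvd, fun d hd0 hde => hc ▸ hmin d hd0 hde⟩

/-- The special linear group does not normalise a group of the sixth class. -/
theorem sl_not_le_symplecticNormalizer [Fintype F] {r : ℕ} {R : Subgroup (GL ι F)} (hn : 3 ≤ Fintype.card ι)
    (hR : Geo.IsLinearSymplecticTypeData r R) : ¬ Geo.specialLinear ι F ≤ Geo.subgroupNormalizer R := by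
  obtain ⟨hr, hr0, hSC, ⟨m, -, hm⟩, p, e, hp, hf, hc⟩ := symplecticData hn hR
  have h4 : 4 ≤ Fintype.card F := by
    rcases hc with ⟨-, he, h1⟩ | ⟨ho, -, hd, -⟩
    · rw [hf, he, pow_one]
      have := hp.two_le
      omega
    · rw [← hf] at hd
      have h3 : 3 ≤ r := by
        have := hr.two_le
        obtain ⟨k, hk⟩ := ho
        omega
      have h1 := Nat.le_of_dvd (by have := Fintype.one_lt_card (α := F); omega) hd
      omega
  obtain ⟨b, hb, hb2⟩ : ∃ b : F, b ≠ 0 ∧ b ^ 2 ≠ 1 := by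
    classical
    by_contra hcon
    push Not at hcon
    have hsub : (Finset.univ : Finset F) ⊆ {0, 1, -1} := fun x _ => by
      rcases eq_or_ne x 0 with rfl | hx
      · simp
      · rcases sq_eq_one_iff.mp (hcon x hx) with rfl | rfl <;> simp
    have := (Finset.card_le_card hsub).trans Finset.card_le_three
    rw [Finset.card_univ] at this
    omega
  refine hSC.sl_not_le_normalizer ?_ hn hb hb2
  rw [hm, Nat.cast_pow]
  exact pow_ne_zero _ hr0

end Cfsg.Agent.Aschbacher
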