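import Cfsg.Agent.Aschbacher.Composite.Exceptions
import Cfsg.Agent.Aschbacher.Composite.Six

/-!
Four lines over the field of five elements: the monomial group normalises a group of symplectic type of order 64.
-/

set_option autoImplicit false
set_option linter.unusedSectionVars false
set_option linter.style.haveILetI false

namespace Cfsg.Agent.Aschbacher

open scoped MatrixGroups Matrix
open Module

variable {ι : Type} [Fintype ι] [DecidableEq ι] {F : Type*} [Field F]

/-- The four points. -/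
abbrev Pt : Type := ZMod 2 × ZMod 2

/-- The sign pairing on the four points. -/
def sgn (a i : Pt) : ℤ := if a.1 * i.1 + a.2 * i.2 = 0 then 1 else -1

theorem sgn_add_right : ∀ a i j : Pt, sgn a (i + j) = sgn a i * sgn a j := by decide
theorem sgn_add_left : ∀ a b i : Pt, sgn (a + b) i = sgn a i * sgn b i := by decide
theorem sgn_comm : ∀ a i : Pt, sgn a i = sgn i a := by decide
theorem sgn_sq : ∀ a i : Pt, sgn a i * sgn a i = 1 := by decide
theorem sgn_separates : ∀ i j : Pt, i ≠ j → ∃ a, sgn a i ≠ sgn a j := by decide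
theorem sgn_zero : ∀ i : Pt, sgn 0 i = 1 := by decide
theorem sgn_eq : ∀ a i : Pt, sgn a i = 1 ∨ sgn a i = -1 := by decide
theorem sgn_sum : ∀ i j : Pt, ∑ a, sgn a i * sgn a j = if i = j then 4 else 0 := by decide
theorem pt_add_self : ∀ i : Pt, i + i = 0 := by decide
theorem pt_affine : ∀ (π : Equiv.Perm Pt) (s i : Pt), π (i + s) = π i + (π s + π 0) := by decide
theorem bool_coord : ∀ s i : Pt,
    (((i + s).1 == 1) = xor (i.1 == 1) (s.1 == 1) ∧ sgn (1, 0) i = if i.1 == 1 then -1 else 1) ∧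
    (((i + s).2 == 1) = xor (i.2 == 1) (s.2 == 1) ∧ sgn (0, 1) i = if i.2 == 1 then -1 else 1) := by decide
theorem bool_flip : ∀ s i : Pt,
    (s.1 = 1 → ((i + s).1 == 1) = !(i.1 == 1)) ∧ (s.2 = 1 → ((i + s).2 == 1) = !(i.2 == 1)) := by decide
theorem bool_sign : ∀ f : Pt → Bool, (∏ i, (if f i then (1 : ℤ) else -1)) = 1 ∨
    (∏ i, (if f i then (1 : ℤ) else -1)) = -1 := by decide
theorem bool_pattern : ∀ f : Pt → Bool, (∏ i, (if f i then (1 : ℤ) else -1)) = 1 →
    ∃ a, ∀ i, (if f i then (1 : ℤ) else -1) = (if f 0 then (1 : ℤ) else -1) * sgn a i := by decide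

/-- The pairing in the field. -/
def chi (F : Type*) [Field F] (a i : Pt) : F := (sgn a i : F)

theorem chi_add_right (a i j : Pt) : chi F a (i + j) = chi F a i * chi F a j := by
  simp [chi, sgn_add_right]
theorem chi_add_left (a b i : Pt) : chi F (a + b) i = chi F a i * chi F b i := by
  simp [chi, sgn_add_left]
theorem chi_comm (a i : Pt) : chi F a i = chi F i a := by rw [chi, chi, sgn_comm]
theorem chi_sq (a i : Pt) : chi F a i * chi F a i = 1 := by
  rw [chi, ← Int.cast_mul, sgn_sq, Int.cast_one]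
theorem chi_zero (i : Pt) : chi F 0 i = 1 := by simp [chi, sgn_zero]
theorem chi_ne_zero (a i : Pt) : chi F a i ≠ 0 := fun h => one_ne_zero ((chi_sq (F := F) a i).symm.trans (by rw [h, zero_mul]))

variable (b : Module.Basis Pt F (ι → F))

/-- `g` sends each basis vector to a signed translate, up to a common scalar. -/
def IsPauli (g : GL ι F) (s a : Pt) (c : F) : Prop :=
  c ≠ 0 ∧ ∀ i, (g : Matrix ι ι F) *ᵥ b i = (c * chi F a i) • b (i + s)

/-- The group of signed translations with common scalars. -/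
def pauliGroup : Subgroup (GL ι F) where
  carrier := {g | ∃ s a c, IsPauli b g s a c}
  one_mem' := ⟨0, 0, 1, one_ne_zero, fun i => by simp [chi_zero]⟩
  mul_mem' := by
    rintro g g' ⟨s, a, c, hc, hg⟩ ⟨s', a', c', hc', hg'⟩
    refine ⟨s' + s, a + a', c * c' * chi F a s', mul_ne_zero (mul_ne_zero hc hc') (chi_ne_zero _ _), fun i => ?_⟩
    rw [Units.val_mul, ← Matrix.mulVec_mulVec, hg', Matrix.mulVec_smul, hg, smul_smul, chi_add_right, chi_add_left,
      add_assoc]
    congr 1
    ring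
  inv_mem' := by
    rintro g ⟨s, a, c, hc, hg⟩
    refine ⟨s, a, c⁻¹ * chi F a s, mul_ne_zero (inv_ne_zero hc) (chi_ne_zero _ _), fun i => ?_⟩
    refine mulVec_gl_inj g ?_
    show (g : Matrix ι ι F) *ᵥ _ = (g : Matrix ι ι F) *ᵥ _
    rw [mulVec_inv_mulVec, Matrix.mulVec_smul, hg, smul_smul, chi_add_right, add_assoc, pt_add_self, add_zero]
    have h1 : c⁻¹ * chi F a s * chi F a i * (c * (chi F a i * chi F a s)) = 1 := by
      calc _ = (c⁻¹ * c) * ((chi F a i * chi F a i) * (chi F a s * chi F a s)) := by ring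
        _ = 1 := by rw [inv_mul_cancel₀ hc, chi_sq, chi_sq, one_mul, one_mul]
    rw [h1, one_smul]

theorem exists_monomial_gl {κ : Type} [Fintype κ] [DecidableEq κ] (b : Module.Basis κ F (ι → F)) (π : Equiv.Perm κ)
    (c : κ → Fˣ) : ∃ g : GL ι F, ∀ i, (g : Matrix ι ι F) *ᵥ b i = (c i : F) • b (π i) := by
  let e := b.equiv ((b.reindex π.symm).unitsSMul c) (Equiv.refl κ)
  refine ⟨Matrix.GeneralLinearGroup.mkOfDetNeZero (LinearMap.toMatrix' (e : (ι → F) →ₗ[F] (ι → F)))
    (by rw [LinearMap.det_toMatrix']; exact (LinearEquiv.isUnit_det' e).ne_zero), fun i => ?_⟩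
  show LinearMap.toMatrix' (e : (ι → F) →ₗ[F] (ι → F)) *ᵥ b i = _
  rw [LinearMap.toMatrix'_mulVec]
  simp [e, Module.Basis.equiv_apply, Module.Basis.unitsSMul_apply, Units.smul_def]

theorem exists_pauli (s a : Pt) {c : F} (hc : c ≠ 0) : ∃ g : GL ι F, IsPauli b g s a c := by
  obtain ⟨g, hg⟩ := exists_monomial_gl b (Equiv.addRight s) fun i => Units.mk0 _ (mul_ne_zero hc (chi_ne_zero a i))
  exact ⟨g, hc, hg⟩

theorem monomial_det_prod {κ : Type} [Fintype κ] [DecidableEq κ] (b : Module.Basis κ F (ι → F)) {g : GL ι F}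
    (π : Equiv.Perm κ) {c : κ → F} (hg : ∀ i, (g : Matrix ι ι F) *ᵥ b i = c i • b (π i)) :
    (g : Matrix ι ι F).det = (Equiv.Perm.sign π : ℤ) * ∏ i, c i := by
  have hM : LinearMap.toMatrix b b (Matrix.toLin' (g : Matrix ι ι F)) = (Matrix.diagonal c).submatrix ⇑(π⁻¹ : Equiv.Perm κ) id := by
    ext j i
    simp only [LinearMap.toMatrix_apply, Matrix.toLin'_apply, hg, map_smul, Module.Basis.repr_self,
      Finsupp.smul_apply, Finsupp.single_apply, Matrix.submatrix_apply, id_eq, Matrix.diagonal_apply]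
    by_cases h : π i = j
    · simp [← h]
    · rw [if_neg h, if_neg (fun h' => h (by simp [← h']))]
      simp
  have h1 := congrArg Matrix.det hM
  rw [LinearMap.det_toMatrix, LinearMap.det_toLin', Matrix.det_permute, Matrix.det_diagonal, Equiv.Perm.sign_inv] at h1
  exact h1

theorem mem_normalizer_of_finite [Finite F] {R : Subgroup (GL ι F)} {g : GL ι F} (h : ∀ x ∈ R, g * x * g⁻¹ ∈ R) :
    g ∈ Geo.subgroupNormalizer R := by
  refine Subgroup.mem_normalizer_iff.mpr fun x => ⟨h x, fun hx => ?_⟩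
  let f : R → R := fun y => ⟨g * y * g⁻¹, h y y.2⟩
  have hf : Function.Injective f := fun y y' e => by
    have := congrArg Subtype.val e
    simp only [f, mul_left_inj, mul_right_inj] at this
    exact Subtype.ext this
  obtain ⟨y, hy⟩ := Finite.surjective_of_injective hf ⟨g * x * g⁻¹, hx⟩
  have := congrArg Subtype.val hy
  simp only [f, mul_left_inj, mul_right_inj] at this
  exact this ▸ y.2

section Five

variable {b} [Fintype F] (h5 : Fintype.card F = 5)
include h5

theorem five_eq_zero : (5 : F) = 0 := by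
  have := FiniteField.cast_card_eq_zero F
  rw [h5] at this
  simpa using this

theorem two_ne_zero' : (2 : F) ≠ 0 := fun h => one_ne_zero (show (1 : F) = 0 by linear_combination five_eq_zero h5 - 2 * h)

theorem four_ne_zero' : (4 : F) ≠ 0 := by
  rw [show (4 : F) = 2 * 2 by norm_num]
  exact mul_ne_zero (two_ne_zero' h5) (two_ne_zero' h5)

theorem pow_four {c : F} (hc : c ≠ 0) : c ^ 4 = 1 := by
  have := FiniteField.pow_card_sub_one_eq_one c hc
  rwa [h5] at this

theorem sq_sign {c : F} (hc : c ≠ 0) : c ^ 2 = 1 ∨ c ^ 2 = -1 :=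
  sq_eq_one_iff.mp (by rw [← pow_mul]; exact pow_four h5 hc)

theorem chi_separates {i j : Pt} (h : i ≠ j) : ∃ a, chi F a i ≠ chi F a j := by
  obtain ⟨a, ha⟩ := sgn_separates i j h
  refine ⟨a, fun he => ?_⟩
  rcases sgn_eq a i with h1 | h1 <;> rcases sgn_eq a j with h2 | h2 <;> rw [chi, chi, h1, h2] at he
  · exact ha (h1.trans h2.symm)
  · exact two_ne_zero' h5 (by push_cast at he; linear_combination he)
  · exact two_ne_zero' h5 (by push_cast at he; linear_combination -he)
  · exact ha (h1.trans h2.symm)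

omit h5 in
theorem IsPauli.coord {g : GL ι F} {s a : Pt} {c : F} (h : IsPauli b g s a c) (v : ι → F) (i : Pt) :
    b.equivFun ((g : Matrix ι ι F) *ᵥ v) (i + s) = c * chi F a i * b.equivFun v i :=
  monomial_repr (π := fun i => i + s) (add_left_injective s) h.2 v i

theorem IsPauli.unique {g : GL ι F} {s a s' a' : Pt} {c c' : F} (h : IsPauli b g s a c) (h' : IsPauli b g s' a' c') :
    s = s' ∧ a = a' ∧ c = c' := by
  have h0 := (h.2 0).symm.trans (h'.2 0)
  simp only [zero_add, chi_comm _ 0, chi_zero, mul_one] at h0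
  have hs : s = s' := by
    by_contra hne
    have := congrArg (fun w => b.equivFun w s) h0
    simp [Ne.symm hne] at this
    exact h.1 this
  subst hs
  have hc : c = c' := smul_left_injective F (b.ne_zero s) h0
  subst hc
  refine ⟨rfl, ?_, rfl⟩
  by_contra hne
  obtain ⟨i, hi⟩ := chi_separates h5 hne
  refine hi ?_
  rw [chi_comm i a, chi_comm i a']
  exact mul_left_cancel₀ h.1 (smul_left_injective F (b.ne_zero _) ((h.2 i).symm.trans (h'.2 i)))

theorem pauli_absIrred : Geo.ActsAbsolutelyIrreducibly (Geo.matrixSet (pauliGroup b)) := by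
  have hdiag : ∀ a, ∃ g ∈ pauliGroup b, IsPauli b g 0 a 1 := fun a => by
    obtain ⟨g, hg⟩ := exists_pauli b 0 a one_ne_zero
    exact ⟨g, ⟨0, a, 1, hg⟩, hg⟩
  have htr : ∀ s, ∃ g ∈ pauliGroup b, IsPauli b g s 0 1 := fun s => by
    obtain ⟨g, hg⟩ := exists_pauli b s 0 one_ne_zero
    exact ⟨g, ⟨s, 0, 1, hg⟩, hg⟩
  refine ⟨fun W hW => or_iff_not_imp_left.mpr fun hne => ?_, fun M hM => ?_⟩
  · have hinv : ∀ g ∈ pauliGroup b, ∀ w ∈ W, (g : Matrix ι ι F) *ᵥ w ∈ W := fun g hg w hw =>
      hW _ ⟨g, hg, rfl⟩ ⟨w, hw, by simp⟩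
    obtain ⟨v, hv, hv0⟩ := (Submodule.ne_bot_iff _).mp hne
    obtain ⟨j, hj⟩ := Function.ne_iff.mp (b.equivFun.map_ne_zero_iff.mpr hv0)
    choose g hg hgp using hdiag
    have hsum : (∑ a, chi F a j • ((g a : Matrix ι ι F) *ᵥ v)) = (4 * b.equivFun v j) • b j := by
      apply b.equivFun.injective
      funext k
      have hk : ∀ a, b.equivFun ((g a : Matrix ι ι F) *ᵥ v) k = chi F a k * b.equivFun v k := fun a => by
        simpa using (hgp a).coord v k
      simp only [map_sum, map_smul, Finset.sum_apply, Pi.smul_apply, smul_eq_mul, hk, ← mul_assoc, ← Finset.sum_mul,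
        Module.Basis.equivFun_self]
      have hs : (∑ a, chi F a j * chi F a k) = if j = k then 4 else 0 := by
        simp only [chi, ← Int.cast_mul, ← Int.cast_sum, sgn_sum]
        split_ifs <;> simp
      rw [hs]
      rcases eq_or_ne j k with rfl | hjk
      · simp
      · simp [hjk]
    have hbj : b j ∈ W := by
      have h1 : (4 * b.equivFun v j) • b j ∈ W :=
        hsum ▸ W.sum_mem fun a _ => W.smul_mem _ (hinv _ (hg a) v hv)
      exact (Submodule.smul_mem_iff W (mul_ne_zero (four_ne_zero' h5) hj)).mp h1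
    refine top_le_iff.mp fun u _ => ?_
    rw [← b.sum_equivFun u]
    refine W.sum_mem fun k _ => W.smul_mem _ ?_
    obtain ⟨t, ht, htp⟩ := htr (j + k)
    have h1 := hinv t ht _ hbj
    rwa [htp.2, chi_zero, mul_one, one_smul, ← add_assoc, pt_add_self, zero_add] at h1
  · have hM' : ∀ g ∈ pauliGroup b, ∀ v, M *ᵥ ((g : Matrix ι ι F) *ᵥ v) = (g : Matrix ι ι F) *ᵥ (M *ᵥ v) :=
      fun g hg v => by rw [Matrix.mulVec_mulVec, Matrix.mulVec_mulVec, hM _ ⟨g, hg, rfl⟩]
    have hdg : ∀ i k, k ≠ i → b.equivFun (M *ᵥ b i) k = 0 := by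
      intro i k hki
      obtain ⟨a, ha⟩ := chi_separates h5 hki
      obtain ⟨g, hg, hgp⟩ := hdiag a
      have h1 := congrArg (fun w => b.equivFun w k) (hM' g hg (b i))
      have h2 := hgp.coord (M *ᵥ b i) k
      simp only [hgp.2, add_zero, one_mul, Matrix.mulVec_smul, map_smul, Pi.smul_apply, smul_eq_mul] at h1 h2
      rw [h2] at h1
      by_contra h0
      exact ha (mul_right_cancel₀ h0 h1).symm
    refine ⟨b.equivFun (M *ᵥ b 0) 0, eq_smul_one_of_span b.span_eq ?_⟩
    rintro _ ⟨i, rfl⟩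
    have hexp : ∀ i, M *ᵥ b i = b.equivFun (M *ᵥ b i) i • b i := fun i => by
      conv_lhs => rw [← b.sum_equivFun (M *ᵥ b i)]
      exact Finset.sum_eq_single i (fun k _ hk => by rw [hdg i k hk, zero_smul]) (by simp)
    obtain ⟨t, ht, htp⟩ := htr i
    have h1 := congrArg (fun w => b.equivFun w (0 + i)) (hM' t ht (b 0))
    have h2 := htp.coord (M *ᵥ b 0) 0
    simp only [htp.2 0, chi_zero, mul_one, one_smul, one_mul, zero_add] at h1 h2
    rw [hexp i, h1, h2]

theorem pauli_center_iff (x : pauliGroup b) :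
    x ∈ Subgroup.center (pauliGroup b) ↔ (x : GL ι F) ∈ Geo.scalars ι F := by
  haveI : Nonempty ι := not_isEmpty_iff.mp fun h => b.ne_zero 0 (Subsingleton.elim _ _)
  constructor
  · intro hx
    exact mem_scalars_of_commute (pauli_absIrred h5) fun y hy =>
      (congrArg Subtype.val (Subgroup.mem_center_iff.mp hx ⟨y, hy⟩)).symm
  · intro hx
    exact Subgroup.mem_center_iff.mpr fun y => Subtype.ext (scalars_central hx _)

omit h5 in
theorem scalar_isPauli {z : GL ι F} {c : Fˣ} (hz : (z : Matrix ι ι F) = (c : F) • 1) : IsPauli b z 0 0 c :=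
  ⟨c.ne_zero, fun i => by rw [hz, Matrix.smul_mulVec, Matrix.one_mulVec, chi_zero, mul_one, add_zero]⟩

theorem pauli_card : Nat.card (pauliGroup b) = 64 ∧ Nat.card (Subgroup.center (pauliGroup b)) = 4 := by
  haveI : Nonempty ι := not_isEmpty_iff.mp fun h => b.ne_zero 0 (Subsingleton.elim _ _)
  have hu : Nat.card Fˣ = 4 := by
    rw [Nat.card_units, Nat.card_eq_fintype_card, h5]
  constructor
  · choose g hg using fun x : Pt × Pt × Fˣ => exists_pauli b x.1 x.2.1 (c := (x.2.2 : F)) x.2.2.ne_zero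
    rw [← Nat.card_eq_of_bijective (fun x : Pt × Pt × Fˣ => (⟨g x, _, _, _, hg x⟩ : pauliGroup b)) ⟨?_, ?_⟩,
      Nat.card_prod, Nat.card_prod]
    · simp [hu]
    · intro x x' he
      have he' : g x = g x' := congrArg Subtype.val he
      have hx' := hg x'
      rw [← he'] at hx'
      obtain ⟨h1, h2, h3⟩ := IsPauli.unique h5 (hg x) hx'
      exact Prod.ext h1 (Prod.ext h2 (Units.ext h3))
    · rintro ⟨y, s, a, c, hy⟩
      refine ⟨(s, a, Units.mk0 c hy.1), Subtype.ext (Units.ext (ext_of_span b.span_eq ?_))⟩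
      rintro _ ⟨i, rfl⟩
      exact ((hg (s, a, Units.mk0 c hy.1)).2 i).trans (hy.2 i).symm
  · rw [← hu]
    let z : Fˣ → GL ι F := Units.map (Matrix.scalar ι : F →+* Matrix ι ι F).toMonoidHom
    have hz : ∀ c, ((z c : GL ι F) : Matrix ι ι F) = (c : F) • 1 := fun c => by
      simp [z, Matrix.smul_one_eq_diagonal]
    refine (Nat.card_eq_of_bijective (fun c : Fˣ => (⟨⟨z c, _, _, _, scalar_isPauli (hz c)⟩,
      (pauli_center_iff h5 _).mpr ((Geo.mem_scalars_iff _).mpr ⟨c, hz c⟩)⟩ : Subgroup.center (pauliGroup b)))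
      ⟨fun c c' he => Units.ext (MaxSub.Asch.smul_one_inj (ι := ι) ?_), fun x => ?_⟩).symm
    · have h1 := congrArg (fun x : Subgroup.center (pauliGroup b) => (((x : pauliGroup b) : GL ι F) : Matrix ι ι F)) he
      simpa only [hz] using h1
    · obtain ⟨c, hc⟩ := (Geo.mem_scalars_iff _).mp ((pauli_center_iff h5 _).mp x.2)
      exact ⟨c, Subtype.ext (Subtype.ext (Units.ext ((hz c).trans hc.symm)))⟩

omit h5 in
theorem IsPauli.sq {g : GL ι F} {s a : Pt} {c : F} (h : IsPauli b g s a c) :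
    ((g ^ 2 : GL ι F) : Matrix ι ι F) = (c ^ 2 * chi F a s) • 1 := by
  refine eq_smul_one_of_span b.span_eq ?_
  rintro _ ⟨i, rfl⟩
  rw [pow_two, Units.val_mul, ← Matrix.mulVec_mulVec, h.2, Matrix.mulVec_smul, h.2, smul_smul, chi_add_right,
    add_assoc, pt_add_self, add_zero]
  congr 1
  calc c * chi F a i * (c * (chi F a i * chi F a s)) = c ^ 2 * (chi F a i * chi F a i) * chi F a s := by ring
    _ = _ := by rw [chi_sq, mul_one]

theorem pauli_pow {x : GL ι F} (hx : x ∈ pauliGroup b) : x ^ 4 = 1 := by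
  obtain ⟨s, a, c, h⟩ := hx
  refine Units.ext ?_
  rw [show 4 = 2 * 2 from rfl, pow_mul, Units.val_pow_eq_pow_val, h.sq, smul_pow, one_pow, mul_pow, ← pow_mul,
    pow_four h5 h.1, one_mul, pow_two, chi_sq, one_smul, Units.val_one]

theorem exists_diag_normalizer (k : Pt → Bool) (hk : k = (fun i => i.1 == 1) ∨ k = (fun i => i.2 == 1)) :
    ∃ g ∈ Geo.subgroupNormalizer (pauliGroup b), ∀ i, (g : Matrix ι ι F) *ᵥ b i = (if k i then 2 else 1 : F) • b i := by
  have hw : ∀ i, (if k i then 2 else 1 : F) ≠ 0 := fun i => by split_ifs <;> simp [two_ne_zero' h5]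
  obtain ⟨g, hg⟩ := exists_monomial_gl b 1 fun i => Units.mk0 _ (hw i)
  simp only [Units.val_mk0, Equiv.Perm.coe_one, id_eq] at hg
  refine ⟨g, mem_normalizer_of_finite fun x hx => ?_, hg⟩
  obtain ⟨s, a, c, hc, hxg⟩ := hx
  obtain ⟨e, he⟩ : ∃ e, ∀ i : Pt, k (i + s) = xor (k i) (k s) ∧ sgn e i = if k i then -1 else 1 := by
    rcases hk with rfl | rfl
    · exact ⟨(1, 0), fun i => (bool_coord s i).1⟩
    · exact ⟨(0, 1), fun i => (bool_coord s i).2⟩
  let r : F := if k s then 2 else 1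
  refine ⟨s, if k s then a + e else a, c * r, mul_ne_zero hc (hw s), fun i => ?_⟩
  have hgi : ((g⁻¹ : GL ι F) : Matrix ι ι F) *ᵥ b i = (if k i then 2 else 1 : F)⁻¹ • b i := by
    refine mulVec_gl_inj g ?_
    show (g : Matrix ι ι F) *ᵥ _ = (g : Matrix ι ι F) *ᵥ _
    rw [mulVec_inv_mulVec, Matrix.mulVec_smul, hg, smul_smul, inv_mul_cancel₀ (hw i), one_smul]
  rw [Units.val_mul, Units.val_mul, ← Matrix.mulVec_mulVec, ← Matrix.mulVec_mulVec, hgi, Matrix.mulVec_smul,
    Matrix.mulVec_smul, hxg, Matrix.mulVec_smul, hg, smul_smul, smul_smul]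
  congr 1
  rw [(he i).1]
  have h2inv : (2 : F)⁻¹ = 3 := inv_eq_of_mul_eq_one_right (by linear_combination five_eq_zero h5)
  have hchi : chi F e i = if k i then -1 else 1 := by
    rw [chi, (he i).2]; split_ifs <;> simp
  have h5' := five_eq_zero (F := F) h5
  by_cases h1 : k i <;> by_cases h2 : k s <;>
    simp [r, h1, h2, chi_add_left, hchi, h2inv] <;>
    first
      | linear_combination (0 : F) * h5'
      | linear_combination (c * chi F a i) * h5'

theorem exists_fourier :
    ∃ g ∈ Geo.subgroupNormalizer (pauliGroup b),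
      ∀ x s a c, IsPauli b x s a c → IsPauli b (g * x * g⁻¹) a s (c * chi F s a) := by
  let L : (ι → F) →ₗ[F] (ι → F) := b.constr F fun i => ∑ j, chi F i j • b j
  have hL : ∀ i, L (b i) = ∑ j, chi F i j • b j := fun i => b.constr_basis F _ i
  have hLL : L ∘ₗ L = (4 : F) • LinearMap.id := by
    refine b.ext fun i => ?_
    simp only [LinearMap.comp_apply, hL, map_sum, map_smul, LinearMap.smul_apply, LinearMap.id_apply,
      Finset.smul_sum, smul_smul]
    rw [Finset.sum_comm]
    simp only [← Finset.sum_smul]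
    rw [Finset.sum_eq_single i]
    · congr 1
      simp only [chi, sgn_comm i, ← Int.cast_mul, ← Int.cast_sum, sgn_sum]
      simp
    · intro j _ hj
      simp only [chi, sgn_comm i, ← Int.cast_mul, ← Int.cast_sum]
      rw [show (∑ x, sgn x i * sgn x j) = 0 by rw [sgn_sum, if_neg (Ne.symm hj)], Int.cast_zero, zero_smul]
    · simp
  have hdet : LinearMap.det L ≠ 0 := by
    intro h0
    have := congrArg LinearMap.det hLL
    rw [LinearMap.det_comp, h0, zero_mul, LinearMap.det_smul, LinearMap.det_id, mul_one] at this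
    exact pow_ne_zero _ (four_ne_zero' h5) this.symm
  let g : GL ι F := Matrix.GeneralLinearGroup.mkOfDetNeZero (LinearMap.toMatrix' L)
    (by rw [LinearMap.det_toMatrix']; exact hdet)
  have hg : ∀ v, (g : Matrix ι ι F) *ᵥ v = L v := fun v => LinearMap.toMatrix'_mulVec L v
  have key : ∀ x s a c, IsPauli b x s a c → IsPauli b (g * x * g⁻¹) a s (c * chi F s a) := by
    rintro x s a c hx
    obtain ⟨y, hy⟩ := exists_pauli b a s (mul_ne_zero hx.1 (chi_ne_zero s a))
    suffices g * x * g⁻¹ = y by rw [this]; exact hy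
    rw [mul_inv_eq_iff_eq_mul]
    refine Units.ext (ext_of_span b.span_eq ?_)
    rintro _ ⟨i, rfl⟩
    rw [Units.val_mul, Units.val_mul, ← Matrix.mulVec_mulVec, ← Matrix.mulVec_mulVec, hx.2, Matrix.mulVec_smul,
      hg, hg, hL, hL, Finset.smul_sum, Matrix.mulVec_sum]
    rw [← Equiv.sum_comp (Equiv.addRight a) (fun j => (c * chi F a i) • chi F (i + s) j • b j)]
    refine Finset.sum_congr rfl fun j _ => ?_
    rw [Matrix.mulVec_smul, hy.2, smul_smul, smul_smul, Equiv.coe_addRight]
    congr 1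
    rw [chi_add_left, chi_add_right, chi_add_right, chi_comm a i]
    calc c * chi F i a * (chi F i j * chi F i a * (chi F s j * chi F s a))
        = (chi F i a * chi F i a) * (c * chi F i j * chi F s j * chi F s a) := by ring
      _ = _ := by rw [chi_sq]; ring
  refine ⟨g, mem_normalizer_of_finite fun x hx => ?_, key⟩
  obtain ⟨s, a, c, h⟩ := hx
  exact ⟨_, _, _, key x s a c h⟩

theorem pauli_char_abelian (A : Subgroup (pauliGroup b)) (hA : A.Characteristic) (hAc : IsMulCommutative A) :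
    ∀ x ∈ A, (x : GL ι F) ∈ Geo.scalars ι F := by
  have hinv : ∀ g ∈ Geo.subgroupNormalizer (pauliGroup b), ∀ x ∈ A,
      ∀ hm : g * (x : GL ι F) * g⁻¹ ∈ pauliGroup b, (⟨_, hm⟩ : pauliGroup b) ∈ A := by
    intro g hg x hx hm
    let φ : pauliGroup b ≃* pauliGroup b :=
      { toFun := fun y => ⟨g * y * g⁻¹, (Subgroup.mem_normalizer_iff.mp hg _).mp y.2⟩
        invFun := fun y => ⟨g⁻¹ * y * g, by
          simpa using (Subgroup.mem_normalizer_iff.mp (inv_mem hg) _).mp y.2⟩
        left_inv := fun y => Subtype.ext (by simp [mul_assoc])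
        right_inv := fun y => Subtype.ext (by simp [mul_assoc])
        map_mul' := fun y y' => Subtype.ext (by simp [mul_assoc]) }
    exact Subgroup.characteristic_iff_le_comap.mp hA φ hx
  have key : ∀ x ∈ A, ∀ s a c, IsPauli b ((x : pauliGroup b) : GL ι F) s a c → s = 0 := by
    intro x hx s a c hxp
    by_contra hs
    obtain ⟨k, hk, hks⟩ : ∃ k : Pt → Bool, (k = (fun i => i.1 == 1) ∨ k = (fun i => i.2 == 1)) ∧
        ∀ i, k (i + s) = !k i := by
      have h : ∀ s : Pt, s ≠ 0 → s.1 = 1 ∨ s.2 = 1 := by decide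
      rcases h s hs with h1 | h1
      · exact ⟨_, Or.inl rfl, fun i => (bool_flip s i).1 h1⟩
      · exact ⟨_, Or.inr rfl, fun i => (bool_flip s i).2 h1⟩
    obtain ⟨g, hgn, hg⟩ := exists_diag_normalizer (b := b) h5 k hk
    have hm : g * (x : GL ι F) * g⁻¹ ∈ pauliGroup b := (Subgroup.mem_normalizer_iff.mp hgn _).mp x.2
    have hc := congrArg Subtype.val (congrArg Subtype.val (hAc.is_comm.comm ⟨_, hinv g hgn x hx hm⟩ ⟨x, hx⟩))
    simp only [Subgroup.coe_mul] at hc
    set d : Pt → F := fun i => if k i then 2 else 1 with hd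
    have hd0 : ∀ i, d i ≠ 0 := fun i => by simp only [hd]; split_ifs <;> simp [two_ne_zero' h5]
    have hgi : ∀ i, ((g⁻¹ : GL ι F) : Matrix ι ι F) *ᵥ b i = (d i)⁻¹ • b i := fun i => by
      refine mulVec_gl_inj g ?_
      show (g : Matrix ι ι F) *ᵥ _ = (g : Matrix ι ι F) *ᵥ _
      rw [mulVec_inv_mulVec, Matrix.mulVec_smul, hg, smul_smul, inv_mul_cancel₀ (hd0 i), one_smul]
    have hy : ∀ i, ((g * (x : GL ι F) * g⁻¹ : GL ι F) : Matrix ι ι F) *ᵥ b i =
        ((d i)⁻¹ * d (i + s) * (c * chi F a i)) • b (i + s) := fun i => by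
      rw [Units.val_mul, Units.val_mul, ← Matrix.mulVec_mulVec, ← Matrix.mulVec_mulVec, hgi, Matrix.mulVec_smul,
        Matrix.mulVec_smul, hxp.2, Matrix.mulVec_smul, hg, smul_smul, smul_smul]
      congr 1
      simp only [hd]
      ring
    have h1 := congrArg (fun M : GL ι F => b.equivFun ((M : Matrix ι ι F) *ᵥ b 0) 0) hc
    simp only [Units.val_mul (g * (x : GL ι F) * g⁻¹) (x : GL ι F), Units.val_mul (x : GL ι F) (g * (x : GL ι F) * g⁻¹),
      ← Matrix.mulVec_mulVec, hy, hxp.2, Matrix.mulVec_smul, map_smul, Pi.smul_apply, smul_eq_mul, zero_add,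
      pt_add_self, Module.Basis.equivFun_self, if_true, mul_one] at h1
    have h2 : (d s)⁻¹ * d 0 = (d 0)⁻¹ * d s := by
      refine mul_right_cancel₀ (mul_ne_zero (mul_ne_zero hxp.1 (chi_ne_zero (F := F) a 0))
        (mul_ne_zero hxp.1 (chi_ne_zero (F := F) a s))) ?_
      linear_combination h1
    have h0 := hks 0
    rw [zero_add] at h0
    have h3 : (2 : F)⁻¹ = 3 := inv_eq_of_mul_eq_one_right (by linear_combination five_eq_zero h5)
    have h4 : (3 : F) ≠ 2 := fun h => one_ne_zero (show (1 : F) = 0 by linear_combination h)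
    simp only [hd, h0] at h2
    cases hk0 : k 0 <;> simp [hk0, h3] at h2
    · exact h4 h2
    · exact h4 h2.symm
  intro x hx
  obtain ⟨s, a, c, hxp⟩ := x.2
  obtain rfl := key x hx s a c hxp
  obtain ⟨g, hgn, hgk⟩ := exists_fourier (b := b) h5
  have hm : g * (x : GL ι F) * g⁻¹ ∈ pauliGroup b := (Subgroup.mem_normalizer_iff.mp hgn _).mp x.2
  obtain rfl := key _ (hinv g hgn x hx hm) _ _ _ (hgk _ _ _ _ hxp)
  exact (Geo.mem_scalars_iff _).mpr ⟨Units.mk0 c hxp.1, eq_smul_one_of_span b.span_eq (by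
    rintro _ ⟨i, rfl⟩
    rw [hxp.2, chi_zero, mul_one, add_zero, Units.val_mk0])⟩

theorem pauli_data (hι : Fintype.card ι = 4) : Geo.IsLinearSymplecticTypeData 2 (pauliGroup b) := by
  haveI : Nonempty ι := Fintype.card_pos_iff.mp (by omega)
  haveI : Fact (Nat.Prime 2) := ⟨Nat.prime_two⟩
  haveI : Fact (Nat.Prime 5) := ⟨Nat.prime_five⟩
  haveI : CharP F 5 := by
    refine charP_of_card_eq_prime_pow (f := 1) ?_
    simp [h5]
  obtain ⟨hR, hZ⟩ := pauli_card (b := b) h5
  refine ⟨⟨Nat.prime_two, IsPGroup.of_card (n := 6) (by rw [hR]; norm_num), fun A hA hAc => ?_, ?_⟩,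
    pauli_absIrred h5, 5, 1, by norm_num, ⟨Nat.prime_five, inferInstance, by simp [h5], by rw [hZ]; norm_num,
      fun d hd hd1 => by omega⟩, Or.inr (Or.inl ⟨rfl, rfl, hZ, by omega, 2, by rw [hR]; norm_num⟩)⟩
  · have hle : A ≤ Subgroup.center (pauliGroup b) := fun x hx =>
      (pauli_center_iff h5 x).mpr (pauli_char_abelian h5 A hA hAc x hx)
    haveI := center_cyclic (pauli_absIrred (b := b) h5)
    exact isCyclic_of_injective (Subgroup.inclusion hle) (Subgroup.inclusion_injective hle)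
  · refine Nat.dvd_antisymm (Monoid.exponent_dvd_of_forall_pow_eq_one fun x => Subtype.ext ?_) ?_
    · simpa using pauli_pow h5 x.2
    · haveI := center_cyclic (pauli_absIrred (b := b) h5)
      have h1 : Monoid.exponent (Subgroup.center (pauliGroup b)) = 4 := IsCyclic.exponent_eq_card.trans hZ
      calc 2 * Nat.gcd 2 2 = Monoid.exponent (Subgroup.center (pauliGroup b)) := by rw [h1]; norm_num
        _ ∣ _ := Monoid.exponent_dvd_of_monoidHom (Subgroup.center (pauliGroup b)).subtype Subtype.val_injective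

omit b in
/-- Four lines over five elements. -/
theorem four_lines_five {D : Fin 4 → Submodule F (Fin 4 → F)} (hD : Geo.IsMDecomposition 1 D) :
    ∃ R : Subgroup (GL (Fin 4) F), Geo.IsLinearSymplecticTypeData 2 R ∧
      Geo.decompositionStabilizer D ⊓ Geo.specialLinear (Fin 4) F ≤ Geo.subgroupNormalizer R := by
  classical
  obtain ⟨b₀, -, hb⟩ := exists_frame_of_decomp hD
  let E : Fin 4 ≃ Pt := (Fintype.equivFinOfCardEq (show Fintype.card Pt = 4 from rfl)).symm
  let b := b₀.reindex E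
  refine ⟨pauliGroup b, pauli_data h5 (Fintype.card_fin 4), ?_⟩
  rintro g ⟨hgD, hg1⟩
  obtain ⟨π, c, hπ, hc, hgb⟩ := frame_perm (b := b) (g := g) fun i => by
    obtain ⟨j, r, hj⟩ := hb g hgD (E.symm i)
    exact ⟨E j, r, by simpa [b] using hj⟩
  let p : Equiv.Perm Pt := Equiv.ofBijective π (Finite.injective_iff_bijective.mp hπ)
  have hgb' : ∀ i, (g : Matrix (Fin 4) (Fin 4) F) *ᵥ b i = c i • b (p i) := hgb
  have hprod : (∏ i, c i) ^ 2 = 1 := by
    have h1 := monomial_det_prod b p hgb'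
    rw [det_eq_one_of_mem hg1] at h1
    rcases Int.units_eq_one_or (Equiv.Perm.sign p) with h2 | h2 <;> rw [h2] at h1 <;> simp at h1
    · rw [← h1, one_pow]
    · rw [show (∏ i, c i) = -1 by linear_combination h1]; norm_num
  refine mem_normalizer_of_finite fun x hx => ?_
  obtain ⟨s, a, d, hd, hxb⟩ := hx
  -- the coefficients after conjugation
  let r : Pt → F := fun i => (c i)⁻¹ * (d * chi F a i) * c (i + s)
  have hr : ∀ i, ((g * x * g⁻¹ : GL (Fin 4) F) : Matrix (Fin 4) (Fin 4) F) *ᵥ b (p i) = r i • b (p (i + s)) := by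
    intro i
    have hgi : ((g⁻¹ : GL (Fin 4) F) : Matrix (Fin 4) (Fin 4) F) *ᵥ b (p i) = (c i)⁻¹ • b i := by
      refine mulVec_gl_inj g ?_
      show (g : Matrix (Fin 4) (Fin 4) F) *ᵥ _ = (g : Matrix (Fin 4) (Fin 4) F) *ᵥ _
      rw [mulVec_inv_mulVec, Matrix.mulVec_smul, hgb', smul_smul, inv_mul_cancel₀ (hc i), one_smul]
    rw [Units.val_mul, Units.val_mul, ← Matrix.mulVec_mulVec, ← Matrix.mulVec_mulVec, hgi, Matrix.mulVec_smul,
      Matrix.mulVec_smul, hxb, Matrix.mulVec_smul, hgb', smul_smul, smul_smul]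
  have hr0 : ∀ i, r i ≠ 0 := fun i =>
    mul_ne_zero (mul_ne_zero (inv_ne_zero (hc i)) (mul_ne_zero hd (chi_ne_zero a i))) (hc _)
  -- all squares of the coefficients agree
  have hsame : ∀ i, r i ^ 2 = r 0 ^ 2 := by
    let f : Pt → Bool := fun i => decide (c i ^ 2 = 1)
    have hf : ∀ i, c i ^ 2 = ((if f i then (1 : ℤ) else -1 : ℤ) : F) := fun i => by
      by_cases h : c i ^ 2 = 1
      · simp only [f, h, decide_true, if_true, Int.cast_one]
      · simp only [f, h, decide_false, Bool.false_eq_true, if_false, Int.cast_neg, Int.cast_one]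
        exact (sq_sign h5 (hc i)).resolve_left h
    have hfp : (∏ i, (if f i then (1 : ℤ) else -1)) = 1 := by
      have h1 : ((∏ i, (if f i then (1 : ℤ) else -1) : ℤ) : F) = 1 := by
        rw [Int.cast_prod, ← hprod, ← Finset.prod_pow]
        exact Finset.prod_congr rfl fun i _ => (hf i).symm
      rcases bool_sign f with h | h
      · exact h
      · rw [h] at h1
        exact absurd (show (2 : F) = 0 by push_cast at h1; linear_combination -h1) (two_ne_zero' h5)
    obtain ⟨e, he⟩ := bool_pattern f hfp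
    have hcs : ∀ i, c i ^ 2 = c 0 ^ 2 * chi F e i := fun i => by
      rw [hf i, hf 0, he i, Int.cast_mul]; rfl
    have hci : ∀ i, ((c i)⁻¹) ^ 2 = c i ^ 2 := fun i => by
      refine mul_left_cancel₀ (pow_ne_zero 2 (hc i)) ?_
      rw [← mul_pow, mul_inv_cancel₀ (hc i), one_pow, ← pow_add, pow_four h5 (hc i)]
    intro i
    simp only [r, mul_pow, hci, zero_add]
    rw [hcs i, hcs (i + s), hcs s, pow_two (chi F a i), pow_two (chi F a 0), chi_sq, chi_sq, chi_add_right]
    calc c 0 ^ 2 * chi F e i * (d ^ 2 * 1) * (c 0 ^ 2 * (chi F e i * chi F e s))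
        = (chi F e i * chi F e i) * (c 0 ^ 2 * (d ^ 2 * 1) * (c 0 ^ 2 * chi F e s)) := by ring
      _ = _ := by rw [chi_sq, one_mul]
  have hrprod : ∏ i, r i = 1 := by
    simp only [r, Finset.prod_mul_distrib, Finset.prod_inv_distrib, Finset.prod_const, Finset.card_univ]
    rw [show (∏ i, c (i + s)) = ∏ i, c i from Equiv.prod_comp (Equiv.addRight s) c]
    have h1 : ∀ a : Pt, ∏ i, sgn a i = 1 := by decide
    simp only [chi, ← Int.cast_prod, h1, Int.cast_one, mul_one]
    rw [show Fintype.card Pt = 4 from rfl, pow_four h5 hd, mul_one]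
    exact inv_mul_cancel₀ (Finset.prod_ne_zero_iff.mpr fun i _ => hc i)
  -- so they are a character up to a scalar
  let f : Pt → Bool := fun j => decide (r (p.symm j) = r (p.symm 0))
  have hf : ∀ j, r (p.symm j) = r (p.symm 0) * ((if f j then (1 : ℤ) else -1 : ℤ) : F) := fun j => by
    by_cases h : r (p.symm j) = r (p.symm 0)
    · simp [f, h]
    · rcases sq_eq_sq_iff_eq_or_eq_neg.mp ((hsame (p.symm j)).trans (hsame (p.symm 0)).symm) with h' | h'
      · exact absurd h' h
      · simpa [f, h] using h'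
  have hfp : (∏ j, (if f j then (1 : ℤ) else -1)) = 1 := by
    have h1 : ((∏ j, (if f j then (1 : ℤ) else -1) : ℤ) : F) = 1 := by
      have h2 : ∏ j, r (p.symm j) = 1 := (Equiv.prod_comp p.symm r).trans hrprod
      rw [Finset.prod_congr rfl (fun j _ => hf j), Finset.prod_mul_distrib, Finset.prod_const, Finset.card_univ,
        show Fintype.card Pt = 4 from rfl, pow_four h5 (hr0 _), one_mul] at h2
      rw [Int.cast_prod]; exact h2
    rcases bool_sign f with h | h
    · exact h
    · rw [h] at h1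
      exact absurd (show (2 : F) = 0 by push_cast at h1; linear_combination -h1) (two_ne_zero' h5)
  obtain ⟨e, he⟩ := bool_pattern f hfp
  refine ⟨p s + p 0, e, r (p.symm 0), hr0 _, fun j => ?_⟩
  obtain ⟨i, rfl⟩ := p.surjective j
  rw [hr, pt_affine p s i]
  congr 1
  have h2 := hf (p i)
  rw [Equiv.symm_apply_apply] at h2
  rw [h2, he (p i), show (if f 0 then (1 : ℤ) else -1) = 1 by simp [f], one_mul]
  rfl

end Five

end Cfsg.Agent.Aschbacher
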