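import Cfsg.Agent.Aschbacher.Composite.NotLe
import Cfsg.Agent.Aschbacher.Composite.Six
import Cfsg.Agent.Aschbacher.Composite.Exceptions
import Cfsg.Agent.Aschbacher.Composite.FourFive
import Cfsg.Agent.Aschbacher.LinearPrime
import Cfsg.Agent.MaxSub.Asch.Main

/-!
The list of maximal subgroups of a special linear group of arbitrary dimension at least three, with the side
conditions in the form the statements need them.
-/

set_option autoImplicit false
set_option linter.unusedSectionVars false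
set_option linter.style.haveILetI false

namespace Cfsg.Agent.Aschbacher

open scoped MatrixGroups Matrix
open Module

variable {F : Type*} [Field F] [Fintype F] {n : ℕ}

/-- The stabiliser of a subspace. -/
def SubCase (H : Subgroup (GL (Fin n) F)) : Prop :=
  ∃ W : Submodule F (Fin n → F), W ≠ ⊥ ∧ W ≠ ⊤ ∧ H = Geo.subspaceStabilizer W ⊓ Geo.specialLinear (Fin n) F

/-- The stabiliser of a decomposition. -/
def DecCase (t m : ℕ) (H : Subgroup (GL (Fin n) F)) : Prop :=
  ∃ D : Fin t → Submodule F (Fin n → F), Geo.IsMDecomposition m D ∧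
    H = Geo.decompositionStabilizer D ⊓ Geo.specialLinear (Fin n) F

/-- The normaliser of a field. -/
def FieldCase (r : ℕ) (H : Subgroup (GL (Fin n) F)) : Prop :=
  ∃ K : Subalgebra F (Matrix (Fin n) (Fin n) F), Geo.IsFieldSubalgebra r K ∧
    H = Geo.subalgebraNormalizer K ⊓ Geo.specialLinear (Fin n) F

/-- The stabiliser of a tensor decomposition. -/
def TensorCase (a b : ℕ) (H : Subgroup (GL (Fin n) F)) : Prop :=
  ∃ (e : Fin n ≃ Fin a × Fin b) (P : GL (Fin n) F),
    H = Geo.tensorProductSubgroup a b e P ⊓ Geo.specialLinear (Fin n) F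

/-- A subfield group. -/
def SubfieldCase (H : Subgroup (GL (Fin n) F)) : Prop :=
  ∃ (F₀ : Subfield F) (r : ℕ) (P : GL (Fin n) F), r.Prime ∧ Fintype.card F = Nat.card F₀ ^ r ∧
    H = Geo.subfieldSubgroup F₀ P ⊓ Geo.specialLinear (Fin n) F

/-- The normaliser of a group of symplectic type. -/
def SixCase (r : ℕ) (H : Subgroup (GL (Fin n) F)) : Prop :=
  ∃ R : Subgroup (GL (Fin n) F), Geo.IsLinearSymplecticTypeData r R ∧
    H = Geo.subgroupNormalizer R ⊓ Geo.specialLinear (Fin n) F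

/-- The stabiliser of a tensor power. -/
def WreathCase (m t : ℕ) (H : Subgroup (GL (Fin n) F)) : Prop :=
  ∃ (e : Fin n ≃ (Fin t → Fin m)) (P : GL (Fin n) F),
    H = Geo.tensorWreathSubgroup m t e P ⊓ Geo.specialLinear (Fin n) F

/-- The similarity group of a symplectic form. -/
def SymplecticCase (H : Subgroup (GL (Fin n) F)) : Prop :=
  ∃ f : (Fin n → F) → (Fin n → F) → F, Geo.IsSymplecticForm f ∧
    H = Geo.similarityGroup f ⊓ Geo.specialLinear (Fin n) F

/-- The similarity group of a unitary form. -/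
def UnitaryCase (H : Subgroup (GL (Fin n) F)) : Prop :=
  ∃ (σ : F ≃+* F) (f : (Fin n → F) → (Fin n → F) → F), Geo.IsUnitaryForm σ f ∧
    H = Geo.similarityGroup f ⊓ Geo.specialLinear (Fin n) F

/-- The similarity group of a quadratic form. -/
def QuadCase (H : Subgroup (GL (Fin n) F)) : Prop :=
  Odd (Fintype.card F) ∧ ∃ Q : (Fin n → F) → F, Geo.IsNondegenerateQuadraticForm Q ∧
    H = Geo.quadSimilarityGroup Q ⊓ Geo.specialLinear (Fin n) F

theorem subCase_of_le (hn : 3 ≤ n) {H : Subgroup (GL (Fin n) F)}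
    (hH : Geo.IsMaximalIn (Geo.specialLinear (Fin n) F) H) {W : Submodule F (Fin n → F)} (hb : W ≠ ⊥) (ht : W ≠ ⊤)
    (hle : H ≤ Geo.subspaceStabilizer W) : SubCase H :=
  ⟨W, hb, ht, eq_inf_of_maximal hH hle (sl_not_le_subspaceStabilizer (by simp; omega) hb ht)⟩

theorem symplecticCase_of_le (hn : 3 ≤ n) {H : Subgroup (GL (Fin n) F)}
    (hH : Geo.IsMaximalIn (Geo.specialLinear (Fin n) F) H) {f : (Fin n → F) → (Fin n → F) → F}
    (hf : Geo.IsSymplecticForm f) (hle : H ≤ Geo.similarityGroup f) : SymplecticCase H := by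
  refine ⟨f, hf, eq_inf_of_maximal hH hle (sl_not_le_similarityGroup (by simpa using hn) hf.bilinear.add_left ?_)⟩
  by_contra hcon
  push Not at hcon
  haveI : Nonempty (Fin n) := ⟨⟨0, by omega⟩⟩
  have hg := exists_gram (RingHom.id F) f hf.bilinear.add_left hf.bilinear.smul_left hf.bilinear.add_right
    (fun c v x => hf.bilinear.smul_right c v x)
  have hu := gram_isUnit hg hf.nondegenerate
  rw [show Geo.gramMatrix f = 0 from Matrix.ext fun a b => hcon a b] at hu
  exact not_isUnit_zero hu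

theorem unitaryCase_of_le (hn : 3 ≤ n) {H : Subgroup (GL (Fin n) F)}
    (hH : Geo.IsMaximalIn (Geo.specialLinear (Fin n) F) H) {σ : F ≃+* F} {f : (Fin n → F) → (Fin n → F) → F}
    (hf : Geo.IsUnitaryForm σ f) (hle : H ≤ Geo.similarityGroup f) : UnitaryCase H := by
  refine ⟨σ, f, hf, eq_inf_of_maximal hH hle (sl_not_le_similarityGroup (by simpa using hn) hf.add_left ?_)⟩
  by_contra hcon
  push Not at hcon
  haveI : Nonempty (Fin n) := ⟨⟨0, by omega⟩⟩
  have hg := exists_gram (σ : F →+* F) f hf.add_left hf.smul_left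
    (fun v x y => by rw [hf.herm, hf.add_left, map_add, ← hf.herm, ← hf.herm])
    (fun c v x => by rw [hf.herm, hf.smul_left, map_mul, ← hf.herm]; rfl)
  have hu := gram_isUnit hg hf.nondegenerate
  rw [show Geo.gramMatrix f = 0 from Matrix.ext fun a b => hcon a b] at hu
  exact not_isUnit_zero hu

theorem quadCase_of_le (hn : 3 ≤ n) {H : Subgroup (GL (Fin n) F)}
    (hH : Geo.IsMaximalIn (Geo.specialLinear (Fin n) F) H) (hodd : Odd (Fintype.card F)) {Q : (Fin n → F) → F}
    (hQ : Geo.IsNondegenerateQuadraticForm Q) (hle : H ≤ Geo.quadSimilarityGroup Q) : QuadCase H :=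
  ⟨hodd, Q, hQ, eq_inf_of_maximal hH hle (sl_not_le_quadSimilarityGroup (by simpa using hn) hQ)⟩

/-- The list, one alternative for each class. -/
theorem linear_cases (hn : 3 ≤ n) {H : Subgroup (GL (Fin n) F)}
    (hH : Geo.IsMaximalIn (Geo.specialLinear (Fin n) F) H) :
    SubCase H ∨ (∃ t m, 2 ≤ t ∧ t * m = n ∧ DecCase t m H) ∨ (∃ r, r.Prime ∧ r ∣ n ∧ FieldCase r H) ∨
    (∃ a b, 2 ≤ a ∧ a < b ∧ a * b = n ∧ TensorCase a b H) ∨ SubfieldCase H ∨
    (∃ r m, r.Prime ∧ 1 ≤ m ∧ r ^ m = n ∧ SixCase r H ∧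
      ∃ p e : ℕ, p.Prime ∧ Fintype.card F = p ^ e ∧
        ((r = 2 ∧ e = 1 ∧ p % 4 = 1) ∨ (Odd r ∧ Odd e ∧ r ∣ p ^ e - 1 ∧ ∀ d, 0 < d → d < e → ¬ r ∣ p ^ d - 1))) ∨
    (∃ m t, 3 ≤ m ∧ 2 ≤ t ∧ m ^ t = n ∧ WreathCase m t H) ∨
    SymplecticCase H ∨ UnitaryCase H ∨ QuadCase H ∨ Geo.InLinearResidualClass H := by
  haveI : Nonempty (Fin n) := ⟨⟨0, by omega⟩⟩
  rcases MaxSub.Asch.linear_structure hn H with ⟨M, hM, hle⟩ | hres
  swap
  · right; right; right; right; right; right; right; right; right; right; exact hres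
  rcases hM with ⟨W, hb, ht, rfl⟩ | ⟨W, U, hb, hWU, -, rfl⟩ | ⟨W, U, hb, -, -, hlt, rfl⟩ | ⟨t, m, D, hD, rfl⟩ |
    ⟨r, K, hr, hK, rfl⟩ | ⟨a, b, e, P, ha, hab, rfl⟩ | ⟨F₀, r, P, hr, hc, rfl⟩ | ⟨r, R, hR, rfl⟩ |
    ⟨m, t, e, P, hm, ht, rfl⟩ | ⟨f, hf, -, -, rfl⟩ | ⟨σ, f, hf, -, rfl⟩ | ⟨Q, hQ, hodd, -, rfl⟩
  · exact Or.inl (subCase_of_le hn hH hb ht hle)
  · exact Or.inl (subCase_of_le hn hH hb hWU.ne_top (hle.trans inf_le_left))
  · refine Or.inl (subCase_of_le hn hH hb ?_ (hle.trans inf_le_left))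
    rintro rfl
    exact absurd (Submodule.finrank_le U) (not_le.mpr (by rwa [finrank_top] at hlt))
  · right; left
    obtain ⟨b, -⟩ := exists_decomp_basis hD
    refine ⟨t, m, hD.two_le, ?_, D, hD, eq_inf_of_maximal hH hle (sl_not_le_decompositionStabilizer hD)⟩
    have h1 := Module.finrank_eq_card_basis b
    rw [Module.finrank_pi, Fintype.card_fin, Fintype.card_prod, Fintype.card_fin, Fintype.card_fin] at h1
    exact h1.symm
  · right; right; left
    have h1 := field_degree_dvd hK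
    rw [Fintype.card_fin] at h1
    exact ⟨r, hr, h1, K, hK, eq_inf_of_maximal hH hle
      (sl_not_le_subalgebraNormalizer (by simpa using hn) hK hr.one_lt)⟩
  · right; right; right; left
    have h1 := Fintype.card_congr e
    simp only [Fintype.card_fin, Fintype.card_prod] at h1
    exact ⟨a, b, ha, hab, h1.symm, e, P, eq_inf_of_maximal hH hle
      (sl_not_le_tensorProductSubgroup ha (by omega) e P)⟩
  · right; right; right; right; left
    refine ⟨F₀, r, P, hr, hc, eq_inf_of_maximal hH hle (sl_not_le_subfieldSubgroup (by simpa using hn) ?_ P)⟩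
    intro ht
    rw [(subfield_eq_top_iff F₀).mp ht] at hc
    exact absurd hc (Nat.ne_of_lt (lt_self_pow₀ Fintype.one_lt_card hr.one_lt))
  · right; right; right; right; right; left
    obtain ⟨hr, -, -, ⟨m, hm1, hm⟩, hfield⟩ := symplecticData (by simpa using hn) hR
    rw [Fintype.card_fin] at hm
    exact ⟨r, m, hr, hm1, hm.symm, ⟨R, hR, eq_inf_of_maximal hH hle
      (sl_not_le_symplecticNormalizer (by simpa using hn) hR)⟩, hfield⟩
  · right; right; right; right; right; right; left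
    have h1 := Fintype.card_congr e
    simp only [Fintype.card_fin, Fintype.card_fun] at h1
    exact ⟨m, t, hm, ht, h1.symm, e, P, eq_inf_of_maximal hH hle
      (sl_not_le_tensorWreathSubgroup (by omega) ht e P)⟩
  · exact Or.inr <| Or.inr <| Or.inr <| Or.inr <| Or.inr <| Or.inr <| Or.inr <| Or.inl (symplecticCase_of_le hn hH hf hle)
  · exact Or.inr <| Or.inr <| Or.inr <| Or.inr <| Or.inr <| Or.inr <| Or.inr <| Or.inr <| Or.inl
      (unitaryCase_of_le hn hH hf hle)
  · exact Or.inr <| Or.inr <| Or.inr <| Or.inr <| Or.inr <| Or.inr <| Or.inr <| Or.inr <| Or.inr <| Or.inl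
      (quadCase_of_le hn hH hodd hQ hle)

/-- A decomposition into lines over a field with fewer than five elements. -/
theorem lines_small (hn : 3 ≤ n) {H : Subgroup (GL (Fin n) F)}
    (hH : Geo.IsMaximalIn (Geo.specialLinear (Fin n) F) H) {t : ℕ} (h : DecCase t 1 H) (hq : Fintype.card F < 5) :
    SubCase H ∨ UnitaryCase H ∨ QuadCase H := by
  obtain ⟨D, hD, rfl⟩ := h
  have := Fintype.one_lt_card (α := F)
  rcases (show Fintype.card F = 2 ∨ Fintype.card F = 3 ∨ Fintype.card F = 4 by omega) with h | h | h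
  · obtain ⟨W, hb, ht, hle⟩ := lines_two_fixed h hD
    exact Or.inl (subCase_of_le hn hH hb ht (inf_le_left.trans hle))
  · obtain ⟨Q, hQ, hle⟩ := lines_three_quadratic h hD
    exact Or.inr (Or.inr (quadCase_of_le hn hH (by rw [h]; exact ⟨1, rfl⟩) hQ (inf_le_left.trans hle)))
  · obtain ⟨σ, f, hf, hle⟩ := lines_four_unitary h hD
    exact Or.inr (Or.inl (unitaryCase_of_le hn hH hf (inf_le_left.trans hle)))

/-- A decomposition into planes over the smallest fields. -/
theorem planes_small (hn : 3 ≤ n) {H : Subgroup (GL (Fin n) F)}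
    (hH : Geo.IsMaximalIn (Geo.specialLinear (Fin n) F) H) {t : ℕ} (h : DecCase t 2 H)
    (hq : Fintype.card F = 2 ∨ (Fintype.card F = 3 ∧ t = 2)) : SymplecticCase H := by
  obtain ⟨D, hD, rfl⟩ := h
  obtain ⟨f, hf, hle⟩ := planes_symplectic hq hD
  exact symplecticCase_of_le hn hH hf hle

/-- A tensor decomposition with a two-dimensional factor over the field with two elements. -/
theorem tensor_small (hn : 3 ≤ n) {H : Subgroup (GL (Fin n) F)}
    (hH : Geo.IsMaximalIn (Geo.specialLinear (Fin n) F) H) {k : ℕ} (hk : 0 < k) (h : TensorCase 2 k H)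
    (hq : Fintype.card F = 2) : FieldCase 2 H := by
  obtain ⟨e, P, rfl⟩ := h
  obtain ⟨K, hK, hle⟩ := tensor_two_field hq hk e P
  exact ⟨K, hK, eq_inf_of_maximal hH (inf_le_left.trans hle)
    (sl_not_le_subalgebraNormalizer (by simpa using hn) hK one_lt_two)⟩

/-- Four lines over five elements. -/
theorem four_lines_small {H : Subgroup (GL (Fin 4) F)} (hH : Geo.IsMaximalIn (Geo.specialLinear (Fin 4) F) H)
    (h : DecCase 4 1 H) (hq : Fintype.card F = 5) : SixCase 2 H := by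
  obtain ⟨D, hD, rfl⟩ := h
  obtain ⟨R, hR, hle⟩ := four_lines_five hq hD
  exact ⟨R, hR, eq_inf_of_maximal hH hle (sl_not_le_symplecticNormalizer (by simp) hR)⟩

/-- The only two-power data in the arithmetic of the sixth class. -/
theorem two_data {r m p e : ℕ} (hn : Even (r ^ m)) (hr : r.Prime)
    (h : (r = 2 ∧ e = 1 ∧ p % 4 = 1) ∨ (Odd r ∧ Odd e ∧ r ∣ p ^ e - 1 ∧ ∀ d, 0 < d → d < e → ¬ r ∣ p ^ d - 1)) :
    r = 2 ∧ e = 1 ∧ p % 4 = 1 := by
  rcases h with h | ⟨ho, -⟩
  · exact h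
  · exact absurd hn (Nat.not_even_iff_odd.mpr ho.pow)

theorem not_pow_six {r m : ℕ} (hr : r.Prime) {n : ℕ} (h2 : 2 ∣ n) {s : ℕ} (hs : s.Prime) (hs2 : s ≠ 2) (hsn : s ∣ n)
    (h : r ^ m = n) : False := by
  have h1 := (Nat.prime_dvd_prime_iff_eq Nat.prime_two hr).mp (Nat.prime_two.dvd_of_dvd_pow (h ▸ h2))
  have h2' := (Nat.prime_dvd_prime_iff_eq hs hr).mp (hs.dvd_of_dvd_pow (h ▸ hsn))
  exact hs2 (h2'.trans h1.symm)

/-- Bounds on the exponent of a power equal to `n`. -/
theorem pow_bound {m t n : ℕ} (hm : 3 ≤ m) (ht : 2 ≤ t) (h : m ^ t = n) (hn : n ≤ 12) : m = 3 ∧ t = 2 := by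
  have h1 : m ^ 2 ≤ 12 := ((Nat.pow_le_pow_right (by omega) ht).trans_eq h).trans hn
  have hm3 : m = 3 := by nlinarith
  subst hm3
  refine ⟨rfl, ?_⟩
  by_contra hne
  have : 27 ≤ 3 ^ t := (show 27 = 3 ^ 3 from rfl) ▸ Nat.pow_le_pow_right (by norm_num) (by omega : 3 ≤ t)
  omega

/-- The prime power data in dimension nine. -/
theorem three_data {p e : ℕ} (hp : p.Prime) (h3 : 3 ∣ p ^ e - 1) (he : Odd e)
    (hmin : ∀ d, 0 < d → d < e → ¬ 3 ∣ p ^ d - 1) : e = 1 ∧ p % 3 = 1 := by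
  have he0 : 0 < e := he.pos
  have hp3 : p ≠ 3 := by
    rintro rfl
    have h1 : (3 : ℕ) ∣ 3 ^ e := dvd_pow_self 3 he0.ne'
    have h2 : 0 < 3 ^ e := Nat.pos_of_ne_zero (by simp)
    omega
  have hmod : p % 3 = 1 ∨ p % 3 = 2 := by
    have : ¬ 3 ∣ p := fun h => hp3 ((Nat.prime_dvd_prime_iff_eq Nat.prime_three hp).mp h).symm
    omega
  have he1 : e = 1 := by
    by_contra hne
    have h2 : 2 < e := by
      obtain ⟨k, hk⟩ := he
      omega
    refine hmin 2 two_pos h2 ?_
    have h1 : p ^ 2 % 3 = 1 := by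
      rcases hmod with h | h <;> simp [Nat.pow_mod, h]
    omega
  subst he1
  rw [pow_one] at h3
  have := hp.two_le
  omega

end Cfsg.Agent.Aschbacher
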